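import Cfsg.Agent.TO.L2.Core

/-!
# The case in which the algebra of the pair is everything
-/

set_option autoImplicit false
set_option linter.unusedSectionVars false

namespace Cfsg.Agent.TO.L2

open Cfsg Cfsg.Agent.BHZ.Nil

section

variable {G : Type} [Group G] {D : Subgroup G} {θ : G → ℂ}

theorem mem_In_iff {t : G} : t ∈ In D θ ↔ (∀ x, t * x * t⁻¹ ∈ D ↔ x ∈ D) ∧ ∀ g, θ (t * g * t⁻¹) = θ g := Iff.rfl

theorem In_le : In D θ ≤ Subgroup.normalizer (D : Set G) := fun _ ht =>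
  Subgroup.mem_normalizer_iff.2 fun x => ((mem_In_iff.1 ht).1 x).symm

theorem conj_mem_Ce {t c : G} (ht : t ∈ Subgroup.normalizer (D : Set G)) (hc : c ∈ Ce D) : t * c * t⁻¹ ∈ Ce D := by
  refine Subgroup.mem_centralizer_iff.2 fun d hd => ?_
  have h1 := Subgroup.mem_centralizer_iff.1 hc _ ((Subgroup.mem_normalizer_iff.1 (inv_mem ht) d).1 hd)
  calc d * (t * c * t⁻¹) = t * (t⁻¹ * d * t⁻¹⁻¹ * c) * t⁻¹ := by group
    _ = _ := by rw [h1]; group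

theorem mem_Ce_of_pow {p : ℕ} (hp : p.Prime) (hi : ¬ p ∣ (Ce D).relIndex (In D θ)) {t : G} (ht : t ∈ In D θ)
    (h : t ^ p ∈ Ce D) : t ∈ Ce D := by
  have : ((Ce D).subgroupOf (In D θ)).Normal := ⟨fun c hc s => conj_mem_Ce (In_le s.2) hc⟩
  have h1 : (QuotientGroup.mk ⟨t, ht⟩ : In D θ ⧸ (Ce D).subgroupOf (In D θ)) ^ p = 1 := by
    rw [← QuotientGroup.mk_pow, QuotientGroup.eq_one_iff]
    exact h
  have h2 : (QuotientGroup.mk ⟨t, ht⟩ : In D θ ⧸ (Ce D).subgroupOf (In D θ)) ^ (Ce D).relIndex (In D θ) = 1 :=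
    pow_card_eq_one'
  have h3 := pow_gcd_eq_one.2 ⟨h1, h2⟩
  rw [(hp.coprime_iff_not_dvd.2 hi).gcd_eq_one, pow_one, QuotientGroup.eq_one_iff] at h3
  exact h3

/-- if `C(D) = D Z(G)` then the inertia group is the normalizer -/
theorem le_In {p : ℕ} {M : Ideal AlgInt} {bl : Set (IrrCharacter G)} (hθ : Can p M bl D θ) (hP : CanP p M bl D θ)
    (hC : ∀ c ∈ Ce D, ∃ d ∈ D, ∃ z ∈ Subgroup.center G, c = d * z) : Subgroup.normalizer (D : Set G) ≤ In D θ := by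
  intro t ht
  refine mem_In_iff.2 ⟨fun x => (Subgroup.mem_normalizer_iff.1 ht x).symm, fun g => ?_⟩
  by_cases hg : g ∈ Ce D
  · obtain ⟨d, hd, z, hz, rfl⟩ := hC g hg
    have h1 : t * (d * z) * t⁻¹ = t * d * t⁻¹ * z := by
      rw [mul_assoc _ t⁻¹, Subgroup.mem_center_iff.1 hz t⁻¹]
      group
    rw [h1, hP.mul _ ((Subgroup.mem_normalizer_iff.1 ht d).1 hd), hP.mul _ hd]
  · rw [hθ.zero g hg, hθ.zero _ fun h => hg ?_]
    have := conj_mem_Ce (inv_mem ht) h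
    rwa [show t⁻¹ * (t * g * t⁻¹) * t⁻¹⁻¹ = g by group] at this

end

variable {F : Type*} [Field F] {R : Type*} [Ring R] [Algebra F R] [Nontrivial R] {Γ : Type*} [Group Γ]
  {j : Γ →* R} {a b : Γ} {ω : F} {G X : Type} [Group G] [Finite G] [Group X] {π : Γ →* X} {σ : G →* X}
  {M : Ideal AlgInt} {bl : Set (IrrCharacter G)} {D : Subgroup G}

/-- **The core without a cover.** -/
theorem MG.core_small (B : Blk) (H : Hyp 3 M bl D σ) (m : MG F j π) (h : Hs (j a) (j b) ω)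
    (hQ : D.map σ = Subgroup.closure {π a, π b})
    (hall : ∀ g : Γ, ∃ y : Matrix (Fin 3) (Fin 3) F, j g = psi (j a) (j b) y)
    {g₁ g₂ : Γ} {c₁ c₂ : F} (h1 : j g₁ = psi (j a) (j b) (c₁ • P1 ω)) (h2 : j g₂ = psi (j a) (j b) (c₂ • P2 ω))
    (hO : (Inn X).index ∣ 12) (h6 : ∀ β : MulAut X, β ^ 6 ∈ Inn X) : False := by
  have : Fact (Nat.Prime 3) := ⟨Nat.prime_three⟩
  have P := m.hp h
  obtain ⟨θ, hθ⟩ := B.can0 G 3 M bl D H.hM H.hb H.hD (P.ab_D H hQ)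
  have hP := B.can1 G 3 M bl D θ hθ
  have ha : π a ∈ D.map σ := hQ ▸ Subgroup.subset_closure (by simp)
  have hb : π b ∈ D.map σ := hQ ▸ Subgroup.subset_closure (by simp)
  have hN := le_In hθ hP fun c hc => by
    obtain ⟨g, hg⟩ := m.surj (σ c)
    obtain ⟨y, hy⟩ := hall g
    have hc' := Subgroup.mem_centralizer_iff.1 (map_mem_centralizer (π := σ) hc)
    rw [← hg] at hc'
    obtain ⟨i, l, s, hs, -⟩ := m.inner h hy (hc' _ ha).symm (hc' _ hb).symm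
    have h3 := m.one_of_scalar hs
    rw [map_mul, mul_eq_one_iff_inv_eq, map_mul, map_pow, map_pow, hg] at h3
    obtain ⟨d, hd, hdc⟩ : σ c ∈ D.map σ := h3 ▸ inv_mem (mul_mem (pow_mem ha i) (pow_mem hb l))
    refine ⟨d, hd, d⁻¹ * c, ?_, by group⟩
    rw [← H.ker, MonoidHom.mem_ker, map_mul, map_inv, hdc, inv_mul_cancel]
  obtain ⟨t₁, e₁⟩ := H.surj (π g₁)
  obtain ⟨t₂, e₂⟩ := H.surj (π g₂)
  have : (Inn X).Normal := ⟨by
    rintro _ ⟨x, rfl⟩ β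
    exact ⟨β x, by ext y; simp⟩⟩
  refine B.q8c G M bl D θ X σ H hθ (P.card_D H hQ) ⟨fun u hu v hv hu1 hv1 => ?_, fun t ht u hu hu1 htu => ?_⟩
    ((Subgroup.relIndex_dvd_index_of_normal _ _).trans hO) fun β _ => h6 β
  · obtain ⟨t, -, ht, he⟩ := P.trans_D H hQ (T := ⊤) (t₁ := t₁) (t₂ := t₂) trivial trivial (e₁ ▸ m.P1_a h h1)
      (e₁ ▸ m.P1_b h h1) (e₂ ▸ m.P2_a h h2) (e₂ ▸ m.P2_b h h2) u hu v hv hu1 hv1
    exact ⟨t, hN ht, he⟩
  · exact mem_Ce_of_pow Nat.prime_three hP.idx ht (P.cube_D H hQ (In_le ht) hu hu1 htu)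

end Cfsg.Agent.TO.L2
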