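import Cfsg.Agent.TO.L2.Lin
import Cfsg.Agent.TO.L2.Small
import Cfsg.Agent.H95.StemCover
import Cfsg.Agent.H93.PslCharpoly
import Cfsg.Agent.H199.PslAut
import Cfsg.Agent.S0249
import Cfsg.Agent.S0265
import Cfsg.Agent.S0813
import Cfsg.Agent.S2086

/-!
# The box L2
-/

set_option autoImplicit false
set_option linter.unusedSectionVars false

namespace Cfsg.Agent.TO.L2

open Cfsg Matrix

variable {F : Type} [Field F] [Fintype F] {n : ℕ}

theorem perf_X (hn : 3 ≤ n) : commutator (ProjectiveSpecialLinearGroup (Fin n) F) = ⊤ := by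
  have h1 := map_commutator_eq _ (pL n F)
  rw [S0248.result n hn, ← MonoidHom.range_eq_map, MonoidHom.range_eq_top.2 mgL.surj] at h1
  rw [commutator_def]
  exact h1.symm

theorem exists_rho (hn : 3 ≤ n)
    (hexc : (n, Fintype.card F) ∉ ({(2, 4), (2, 9), (3, 2), (3, 4), (4, 2)} : Set (ℕ × ℕ)))
    {G : Type} [Group G] [Finite G] {σ : G →* ProjectiveSpecialLinearGroup (Fin n) F} (hG : commutator G = ⊤)
    (hs : Function.Surjective σ) (hc : σ.ker ≤ Subgroup.center G) :
    ∃ ρ : SpecialLinearGroup (Fin n) F →* G, Function.Surjective ρ ∧ ∀ g, σ (ρ g) = pL n F g := by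
  have : NeZero (Nat.gcd n (Fintype.card F - 1)) := ⟨(Nat.gcd_pos_of_pos_left _ (by omega)).ne'⟩
  refine H95.StemCover.exists_cover' (perf_X hn) (S2086.result rfl n (by omega) (by omega) hexc) (pL n F)
    (H95.StemCover.isStem (S0248.result n hn) mgL.surj (QuotientGroup.ker_mk' _).le) ?_ hG σ hs hc
  rw [QuotientGroup.ker_mk', H93.PslCharpoly.card_center n (by omega), Nat.card_congr Multiplicative.toAdd,
    Nat.card_zmod, Nat.card_eq_fintype_card]

theorem out_L34 (hF : Fintype.card F = 4) : (Inn (ProjectiveSpecialLinearGroup (Fin 3) F)).index = 12 := by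
  have hs := S0249.result (F := F) 3 le_rfl
  have hc : Subgroup.center (ProjectiveSpecialLinearGroup (Fin 3) F) = ⊥ := by
    refine (hs.eq_bot_or_eq_top_of_normal _ inferInstance).resolve_right fun h => ?_
    have h1 := (commutator_eq_bot_iff_center_eq_top _).2 h
    rw [perf_X le_rfl] at h1
    exact top_ne_bot h1
  have h1 := S0813.result 2 2 (by norm_num) (F := F) hF 3 (by norm_num) (by norm_num)
  have h2 : Nat.card (SpecialLinearGroup (Fin 3) F) = Nat.card (ProjectiveSpecialLinearGroup (Fin 3) F) *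
      Nat.card (Subgroup.center (SpecialLinearGroup (Fin 3) F)) :=
    Subgroup.card_eq_card_quotient_mul_card_subgroup _
  rw [H93.PslCharpoly.card_center 3 (by norm_num), Nat.card_eq_fintype_card (α := F), hF] at h2
  rw [S0265.result, h2] at h1
  have h3 : Nat.card (Inn (ProjectiveSpecialLinearGroup (Fin 3) F)) =
      Nat.card (ProjectiveSpecialLinearGroup (Fin 3) F) :=
    (Nat.card_congr (MonoidHom.ofInjective ((MonoidHom.ker_eq_bot_iff _).1 (by
      rw [eq_bot_iff, ← hc]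
      intro x hx
      refine Subgroup.mem_center_iff.2 fun y => ?_
      have h4 : x * y * x⁻¹ = y := congrArg (fun f : MulAut _ => f y) (MonoidHom.mem_ker.1 hx)
      rw [← mul_inv_eq_iff_eq_mul.1 h4]))).toEquiv).symm
  have h4 := (Inn (ProjectiveSpecialLinearGroup (Fin 3) F)).card_mul_index
  rw [h3, h1] at h4
  refine Nat.eq_of_mul_eq_mul_left (Nat.card_pos (α := ProjectiveSpecialLinearGroup (Fin 3) F)) ?_
  rw [h4]
  norm_num
  ring

open H199.PslAut in
theorem six_L34 (hF : Fintype.card F = 4) (β : MulAut (ProjectiveSpecialLinearGroup (Fin 3) F)) :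
    β ^ 6 ∈ Inn (ProjectiveSpecialLinearGroup (Fin 3) F) := by
  have hσ : ∀ σ : F ≃+* F, σ * σ = 1 := by
    intro σ
    ext x
    change σ (σ x) = x
    have hx : x ^ 4 = x := by rw [← hF]; exact FiniteField.pow_card x
    by_cases h : σ x = x
    · rw [h, h]
    have h0 : x ≠ 0 := fun h0 => h (by rw [h0, map_zero])
    have h1 : x - 1 ≠ 0 := fun h1 => h (by rw [sub_eq_zero.1 h1, map_one])
    have h2 : x ^ 2 + x + 1 = 0 := mul_left_cancel₀ (mul_ne_zero h0 h1) (by linear_combination hx)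
    have h3 := congrArg σ h2
    rw [map_add, map_add, map_pow, map_one, map_zero] at h3
    have h4 : σ x + x + 1 = 0 := mul_left_cancel₀ (sub_ne_zero.2 h) (by linear_combination h3 - h2)
    have h5 := congrArg σ h4
    rw [map_add, map_add, map_one, map_zero] at h5
    linear_combination h5 - h4
  have h3 : ∀ g : GL (Fin 3) F, Psi 3 F g ^ 3 ∈ Inn (ProjectiveSpecialLinearGroup (Fin 3) F) := by
    intro g
    have hd : ((g ^ 3 : GL (Fin 3) F) : Matrix (Fin 3) (Fin 3) F).det = 1 := by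
      rw [Units.val_pow_eq_pow_val, det_pow]
      have := FiniteField.pow_card_sub_one_eq_one _ g.det_ne_zero
      rwa [hF] at this
    rw [← map_pow, Inn_eq]
    exact ⟨g ^ 3, ⟨⟨_, hd⟩, Units.ext rfl⟩, rfl⟩
  rw [show β ^ 6 = (β * β) ^ 3 by rw [← pow_two, ← pow_mul]]
  rcases exists_form (by norm_num) β with ⟨g, σ, rfl⟩ | ⟨-, g, σ, rfl⟩
  · have : Psi 3 F g * phi 3 F σ * (Psi 3 F g * phi 3 F σ) = Psi 3 F (g * mapGL σ g) := by
      rw [mul_assoc, ← mul_assoc (phi 3 F σ), phi_mul_Psi, mul_assoc, ← map_mul, hσ, map_one, mul_one, map_mul]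
    rw [this]
    exact h3 _
  · have : Psi 3 F g * phi 3 F σ * iot 3 F * (Psi 3 F g * phi 3 F σ * iot 3 F) =
        Psi 3 F (g * mapGL σ (itGL g)) := by
      calc _ = Psi 3 F g * (phi 3 F σ * (iot 3 F * Psi 3 F g)) * (phi 3 F σ * iot 3 F) := by simp only [mul_assoc]
        _ = Psi 3 F g * (phi 3 F σ * Psi 3 F (itGL g)) * (iot 3 F * phi 3 F σ) * iot 3 F := by
          rw [iot_mul_Psi]; simp only [mul_assoc]
        _ = Psi 3 F g * Psi 3 F (mapGL σ (itGL g)) * (phi 3 F σ * phi 3 F σ) * (iot 3 F * iot 3 F) := by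
          rw [phi_mul_Psi, iot_mul_phi]; simp only [mul_assoc]
        _ = _ := by rw [iot_mul_iot, ← map_mul (phi 3 F), hσ, map_one, mul_one, mul_one, map_mul]
    rw [this]
    exact h3 _

end Cfsg.Agent.TO.L2

namespace Cfsg.Agent.TO

open Cfsg Matrix L2

/-- **[L2]** -/
theorem boxL2 (B : Blk) : BoxL2 := by
  rintro F _ _ n hn G _ _ σ M bl D H ⟨a, b, ω, h0, -, -, hQ⟩
  have h : Hs (jL n F a) (jL n F b) ω := hs_of_heis h0
  have : Nonempty (Fin n) := ⟨⟨0, by omega⟩⟩
  have h3 := three_dvd h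
  have hq : 3 ∣ Fintype.card F - 1 :=
    (h.prim.pow_eq_one_iff_dvd _).1 (FiniteField.pow_card_sub_one_eq_one ω (w0 h.prim))
  have h1 : jL n F (iota h ⟨_, det_P1 h.prim⟩) = psi (jL n F a) (jL n F b) ((ω - ω ^ 2)⁻¹ • P1 ω) := rfl
  have h2 : jL n F (iota h ⟨_, det_P2 h.prim⟩) = psi (jL n F a) (jL n F b) ((ω - ω ^ 2)⁻¹ • P2 ω) := rfl
  by_cases h34 : n = 3 ∧ Fintype.card F = 4
  · obtain ⟨rfl, hF⟩ := h34
    refine mgL.core_small B H h hQ (fun g => ?_) h1 h2 (by rw [out_L34 hF]) (six_L34 hF)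
    obtain ⟨y, hy⟩ := (LinearMap.injective_iff_surjective (f := h.psiH.toLinearMap)).1 h.psi_inj (jL 3 F g)
    exact ⟨y, hy.symm⟩
  · obtain ⟨ρ, hρ, hρπ⟩ := exists_rho (F := F) (n := n) (by omega) (by
      simp only [Set.mem_insert_iff, Set.mem_singleton_iff, Prod.mk.injEq]
      omega) H.perf H.surj H.ker.le
    have : Fact (ringChar F).Prime := ⟨CharP.char_is_prime F _⟩
    exact mgL.core_comm B (ringChar F) H h hQ ρ hρ hρπ (hTL (ringChar F) h) h1 h2 (iota_mem h _) (iota_mem h _)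

end Cfsg.Agent.TO
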