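import Cfsg.Agent.TO.RedA

/-!
# Heisenberg pairs above a central quotient
-/

set_option autoImplicit false
set_option linter.unusedSectionVars false

namespace Cfsg.Agent.TO.L2

open Cfsg Cfsg.Agent.BHZ.Nil

/-- a Heisenberg pair above a central quotient -/
structure HP {Γ X : Type*} [Group Γ] [Group X] (π : Γ →* X) (a b z : Γ) : Prop where
  surj : Function.Surjective π
  ker : π.ker ≤ Subgroup.center Γ
  hz : π z = 1
  z1 : z ≠ 1
  a3 : a ^ 3 = 1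
  b3 : b ^ 3 = 1
  comm : a * b = z * (b * a)

/-- the transitive action on the nontrivial elements of a group of order `9` -/
theorem trans_of {Y : Type*} [Group Y] {A B : Y} (hAB : Commute A B) (hA : A ^ 3 = 1) (hB : B ^ 3 = 1)
    {Q : Subgroup Y} [Finite Q] (hQ : ∀ x, x ∈ Q ↔ ∃ i j : ℕ, x = A ^ i * B ^ j) {T : Subgroup Y} {t₁ t₂ : Y}
    (h1 : t₁ ∈ T) (h2 : t₂ ∈ T) (a1 : t₁ * A * t₁⁻¹ = B ^ 2) (b1 : t₁ * B * t₁⁻¹ = A)
    (a2 : t₂ * A * t₂⁻¹ = A ^ 2 * B ^ 2) (b2 : t₂ * B * t₂⁻¹ = A ^ 2 * B) :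
    ∀ u ∈ Q, ∀ v ∈ Q, u ≠ 1 → v ≠ 1 → ∃ t ∈ T, t ∈ Subgroup.normalizer (Q : Set Y) ∧ t * u * t⁻¹ = v := by
  have hAQ : A ∈ Q := (hQ A).2 ⟨1, 0, by simp⟩
  have hBQ : B ∈ Q := (hQ B).2 ⟨0, 1, by simp⟩
  have hc : ∀ t : Y, ∀ i j : ℕ, t * (A ^ i * B ^ j) * t⁻¹ = (t * A * t⁻¹) ^ i * (t * B * t⁻¹) ^ j := by
    intro t i j
    rw [conj_pow, conj_pow]
    group
  have hN : ∀ t : Y, t * A * t⁻¹ ∈ Q → t * B * t⁻¹ ∈ Q → t ∈ Subgroup.normalizer (Q : Set Y) := by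
    intro t ha hb
    refine Subgroup.mem_normalizer_fintype fun x hx => ?_
    obtain ⟨i, j, rfl⟩ := (hQ x).1 hx
    rw [hc]
    exact mul_mem (pow_mem ha i) (pow_mem hb j)
  have n1 := hN t₁ (a1 ▸ pow_mem hBQ 2) (b1 ▸ hAQ)
  have n2 := hN t₂ (a2 ▸ mul_mem (pow_mem hAQ 2) (pow_mem hBQ 2)) (b2 ▸ mul_mem (pow_mem hAQ 2) hBQ)
  let r : Y → Y → Prop := fun u v => ∃ t ∈ T, t ∈ Subgroup.normalizer (Q : Set Y) ∧ t * u * t⁻¹ = v
  have rs : ∀ {u v}, r u v → r v u := by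
    rintro u v ⟨t, ht, hn, rfl⟩
    exact ⟨t⁻¹, inv_mem ht, inv_mem hn, by group⟩
  have rt : ∀ {u v w}, r u v → r v w → r u w := by
    rintro u v w ⟨t, ht, hn, rfl⟩ ⟨t', ht', hn', rfl⟩
    exact ⟨t' * t, mul_mem ht' ht, mul_mem hn' hn, by group⟩
  have red : ∀ i j : ℕ, A ^ i * B ^ j = A ^ (i % 3) * B ^ (j % 3) := fun i j => by
    rw [pow_eq_pow_mod i hA, pow_eq_pow_mod j hB]
  have s1 : ∀ i j : ℕ, r (A ^ i * B ^ j) (A ^ (j % 3) * B ^ (2 * i % 3)) := fun i j =>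
    ⟨t₁, h1, n1, by rw [hc, a1, b1, ← pow_mul, ← red, (hAB.pow_pow j (2 * i)).eq]⟩
  have s2 : r (A ^ 1 * B ^ 0) (A ^ 2 * B ^ 2) := ⟨t₂, h2, n2, by simpa using a2⟩
  have r0 : r (A ^ 1 * B ^ 0) (A ^ 1 * B ^ 0) := ⟨1, one_mem _, one_mem _, by group⟩
  have r1 : r (A ^ 1 * B ^ 0) (A ^ 0 * B ^ 2) := s1 1 0
  have r2 : r (A ^ 1 * B ^ 0) (A ^ 2 * B ^ 0) := rt r1 (s1 0 2)
  have r3 : r (A ^ 1 * B ^ 0) (A ^ 0 * B ^ 1) := rt r2 (s1 2 0)
  have r4 : r (A ^ 1 * B ^ 0) (A ^ 2 * B ^ 1) := rt s2 (s1 2 2)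
  have r5 : r (A ^ 1 * B ^ 0) (A ^ 1 * B ^ 1) := rt r4 (s1 2 1)
  have r6 : r (A ^ 1 * B ^ 0) (A ^ 1 * B ^ 2) := rt r5 (s1 1 1)
  have key : ∀ u ∈ Q, u ≠ 1 → r (A ^ 1 * B ^ 0) u := by
    intro u hu hu1
    obtain ⟨i, j, rfl⟩ := (hQ u).1 hu
    rw [red i j] at hu1 ⊢
    have hi := Nat.mod_lt i (show 0 < 3 by norm_num)
    have hj := Nat.mod_lt j (show 0 < 3 by norm_num)
    generalize i % 3 = i' at hu1 hi ⊢
    generalize j % 3 = j' at hu1 hj ⊢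
    interval_cases i' <;> interval_cases j'
    exacts [absurd (by simp) hu1, r3, r1, r0, r5, r6, r2, r4, s2]
  intro u hu v hv hu1 hv1
  exact rt (rs (key u hu hu1)) (key v hv hv1)

namespace HP

variable {Γ X : Type*} [Group Γ] [Group X] {π : Γ →* X} {a b z : Γ}

theorem cen (h : HP π a b z) {c : Γ} (hc : π c = 1) (g : Γ) : Commute c g :=
  (Subgroup.mem_center_iff.1 (h.ker hc) g).symm

theorem z3 (h : HP π a b z) : z ^ 3 = 1 := by
  have h1 : a * b * a⁻¹ = z * b := by rw [h.comm]; group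
  have h2 : (z * b) ^ 3 = 1 := by rw [← h1, conj_pow, h.b3]; group
  rwa [(h.cen h.hz b).mul_pow, h.b3, mul_one] at h2

theorem ord_z (h : HP π a b z) : orderOf z = 3 :=
  haveI : Fact (Nat.Prime 3) := ⟨Nat.prime_three⟩
  orderOf_eq_prime h.z3 h.z1

theorem pow_comm (h : HP π a b z) (k j : ℕ) : a ^ k * b ^ j = z ^ (k * j) * (b ^ j * a ^ k) := by
  have hz := h.cen h.hz
  have h1 : ∀ j : ℕ, a * b ^ j = z ^ j * (b ^ j * a) := by
    intro j
    induction j with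
    | zero => simp
    | succ j ih =>
      rw [pow_succ b, ← mul_assoc, ih, mul_assoc, mul_assoc, h.comm, ← mul_assoc (b ^ j), ← (hz (b ^ j)).eq,
        pow_succ z]
      simp only [mul_assoc]
  induction k with
  | zero => simp
  | succ k ih =>
    rw [pow_succ a, mul_assoc, h1, ← mul_assoc, ← ((hz (a ^ k)).pow_left j).eq, mul_assoc, ← mul_assoc (a ^ k), ih,
      Nat.succ_mul, add_comm, pow_add]
    simp only [mul_assoc]

theorem of_commute (h : HP π a b z) {i j k l : ℕ} (hc : Commute (a ^ i * b ^ j) (a ^ k * b ^ l)) :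
    j * k ≡ i * l [MOD 3] := by
  have hz := h.cen h.hz
  have e1 : ∀ i j k l : ℕ, z ^ (k * j) * (a ^ i * b ^ j * (a ^ k * b ^ l)) = a ^ (i + k) * b ^ (j + l) := by
    intro i j k l
    rw [pow_add, pow_add, mul_assoc (a ^ i) (a ^ k), ← mul_assoc (a ^ k), h.pow_comm k j, ← mul_assoc, ← mul_assoc,
      ← mul_assoc, ((hz (a ^ i)).pow_left _).eq]
    simp only [mul_assoc]
  have e2 := e1 k l i j
  rw [← hc.eq, add_comm k, add_comm l, ← e1 i j k l] at e2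
  have e3 := mul_right_cancel e2
  rw [pow_eq_pow_iff_modEq, h.ord_z] at e3
  rw [mul_comm j]
  exact e3.symm

theorem cAB (h : HP π a b z) : Commute (π a) (π b) := by
  change π a * π b = π b * π a
  rw [← map_mul, h.comm, map_mul, h.hz, one_mul, map_mul]

theorem A3 (h : HP π a b z) : π a ^ 3 = 1 := by rw [← map_pow, h.a3, map_one]

theorem B3 (h : HP π a b z) : π b ^ 3 = 1 := by rw [← map_pow, h.b3, map_one]

theorem mul_W (h : HP π a b z) (i j k l : ℕ) :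
    π a ^ i * π b ^ j * (π a ^ k * π b ^ l) = π a ^ (i + k) * π b ^ (j + l) := by
  rw [pow_add, pow_add, mul_assoc, mul_assoc, ← mul_assoc (π b ^ j), ← (h.cAB.pow_pow k j).eq, mul_assoc]

theorem red (h : HP π a b z) (i j : ℕ) : π a ^ i * π b ^ j = π a ^ (i % 3) * π b ^ (j % 3) := by
  rw [pow_eq_pow_mod i h.A3, pow_eq_pow_mod j h.B3]

theorem mem_Q (h : HP π a b z) (x : X) :
    x ∈ Subgroup.closure {π a, π b} ↔ ∃ i j : ℕ, x = π a ^ i * π b ^ j := by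
  constructor
  · intro hx
    induction hx using Subgroup.closure_induction with
    | mem x hx =>
      rcases hx with rfl | rfl
      exacts [⟨1, 0, by simp⟩, ⟨0, 1, by simp⟩]
    | one => exact ⟨0, 0, by simp⟩
    | mul x y _ _ hx hy =>
      obtain ⟨i, j, rfl⟩ := hx
      obtain ⟨k, l, rfl⟩ := hy
      exact ⟨_, _, h.mul_W i j k l⟩
    | inv x _ hx =>
      obtain ⟨i, j, rfl⟩ := hx
      refine ⟨2 * i, 2 * j, inv_eq_of_mul_eq_one_right ?_⟩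
      rw [h.mul_W, h.red, show (i + 2 * i) % 3 = 0 by omega, show (j + 2 * j) % 3 = 0 by omega]
      simp
  · rintro ⟨i, j, rfl⟩
    exact mul_mem (pow_mem (Subgroup.subset_closure (by simp)) i) (pow_mem (Subgroup.subset_closure (by simp)) j)

theorem W_eq_one (h : HP π a b z) {i j : ℕ} (h1 : π a ^ i * π b ^ j = 1) : i % 3 = 0 ∧ j % 3 = 0 := by
  have h2 : π (a ^ i * b ^ j) = 1 := by rw [map_mul, map_pow, map_pow, h1]
  have h3 := h.of_commute (h.cen h2 (a ^ 1 * b ^ 0))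
  have h4 := h.of_commute (h.cen h2 (a ^ 0 * b ^ 1))
  unfold Nat.ModEq at h3 h4
  omega

theorem card_Q (h : HP π a b z) : Nat.card (Subgroup.closure {π a, π b} : Subgroup X) = 9 := by
  let f : Fin 3 × Fin 3 → (Subgroup.closure {π a, π b} : Subgroup X) :=
    fun p => ⟨π a ^ (p.1 : ℕ) * π b ^ (p.2 : ℕ), (h.mem_Q _).2 ⟨_, _, rfl⟩⟩
  have hf : Function.Bijective f := by
    constructor
    · rintro ⟨i, j⟩ ⟨k, l⟩ hij
      have h1 : π a ^ (i : ℕ) * π b ^ (j : ℕ) = π a ^ (k : ℕ) * π b ^ (l : ℕ) := congrArg Subtype.val hij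
      have h2 : π a ^ ((i : ℕ) + 2 * k) * π b ^ ((j : ℕ) + 2 * l) = 1 := by
        rw [← h.mul_W, h1, h.mul_W, h.red, show ((k : ℕ) + 2 * k) % 3 = 0 by omega,
          show ((l : ℕ) + 2 * l) % 3 = 0 by omega]
        simp
      have h3 := h.W_eq_one h2
      exact Prod.ext (Fin.ext (by simp only; omega)) (Fin.ext (by simp only; omega))
    · rintro ⟨x, hx⟩
      obtain ⟨i, j, rfl⟩ := (h.mem_Q x).1 hx
      exact ⟨(⟨i % 3, Nat.mod_lt _ (by norm_num)⟩, ⟨j % 3, Nat.mod_lt _ (by norm_num)⟩),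
        Subtype.ext (h.red i j).symm⟩
  rw [← Nat.card_eq_of_bijective f hf]
  simp

theorem comm_Q (h : HP π a b z) {x y : X} (hx : x ∈ Subgroup.closure {π a, π b})
    (hy : y ∈ Subgroup.closure {π a, π b}) : x * y = y * x := by
  obtain ⟨i, j, rfl⟩ := (h.mem_Q x).1 hx
  obtain ⟨k, l, rfl⟩ := (h.mem_Q y).1 hy
  rw [h.mul_W, h.mul_W, add_comm i, add_comm j]

theorem cube_Q (h : HP π a b z) {x : X} (hx : x ∈ Subgroup.closure {π a, π b}) : x ^ 3 = 1 := by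
  obtain ⟨i, j, rfl⟩ := (h.mem_Q x).1 hx
  rw [(h.cAB.pow_pow i j).mul_pow, ← pow_mul, ← pow_mul, mul_comm i, mul_comm j, pow_mul, pow_mul, h.A3, h.B3]
  simp

/-- commuting lifts are dependent -/
theorem lin (h : HP π a b z) {u d : Γ} (hu : π u ∈ Subgroup.closure {π a, π b})
    (hd : π d ∈ Subgroup.closure {π a, π b}) (hu1 : π u ≠ 1) (hc : Commute u d) : ∃ e : ℕ, π d = π u ^ e := by
  obtain ⟨i, j, hij⟩ := (h.mem_Q _).1 hu
  obtain ⟨k, l, hkl⟩ := (h.mem_Q _).1 hd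
  have c1 : π (u⁻¹ * (a ^ i * b ^ j)) = 1 := by simp [hij]
  have c2 : π (d⁻¹ * (a ^ k * b ^ l)) = 1 := by simp [hkl]
  have h1 : Commute (a ^ i * b ^ j) (a ^ k * b ^ l) := by
    rw [← mul_inv_cancel_left u (a ^ i * b ^ j), ← mul_inv_cancel_left d (a ^ k * b ^ l)]
    exact (hc.mul_right (h.cen c2 u).symm).mul_left (h.cen c1 _)
  have h2 := h.of_commute h1
  have h3 : ¬ (i % 3 = 0 ∧ j % 3 = 0) := by
    rintro ⟨hi, hj⟩
    apply hu1
    rw [hij, h.red, hi, hj]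
    simp
  have h4 : ∃ e : ℕ, (i * e) % 3 = k % 3 ∧ (j * e) % 3 = l % 3 := by
    unfold Nat.ModEq at h2
    rw [Nat.mul_mod j, Nat.mul_mod i] at h2
    simp only [Nat.mul_mod i, Nat.mul_mod j]
    have hi := Nat.mod_lt i (show 0 < 3 by norm_num)
    have hj := Nat.mod_lt j (show 0 < 3 by norm_num)
    have hk := Nat.mod_lt k (show 0 < 3 by norm_num)
    have hl := Nat.mod_lt l (show 0 < 3 by norm_num)
    generalize i % 3 = i' at *
    generalize j % 3 = j' at *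
    generalize k % 3 = k' at *
    generalize l % 3 = l' at *
    interval_cases i' <;> interval_cases j' <;> interval_cases k' <;> interval_cases l' <;>
      first | omega | exact ⟨0, rfl, rfl⟩ | exact ⟨1, rfl, rfl⟩ | exact ⟨2, rfl, rfl⟩
  obtain ⟨e, h5, h6⟩ := h4
  exact ⟨e, by rw [hij, hkl, (h.cAB.pow_pow i j).mul_pow, ← pow_mul, ← pow_mul, h.red (i * e), h5, h6, ← h.red]⟩

/-- the normalizer acts with determinant one -/
theorem cube (h : HP π a b z) {t u : X}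
    (ht : t ∈ Subgroup.normalizer ((Subgroup.closure {π a, π b} : Subgroup X) : Set X))
    (hu : u ∈ Subgroup.closure {π a, π b}) (hu1 : u ≠ 1) (htu : t * u * t⁻¹ = u) :
    t ^ 3 ∈ Ce (Subgroup.closure {π a, π b} : Subgroup X) := by
  refine Subgroup.mem_centralizer_iff.2 fun v hv => ?_
  obtain ⟨s, rfl⟩ := h.surj t
  obtain ⟨u, rfl⟩ := h.surj u
  obtain ⟨v, rfl⟩ := h.surj v
  have hd : π (s * v * s⁻¹ * v⁻¹) ∈ Subgroup.closure {π a, π b} := by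
    rw [map_mul, map_mul, map_mul, map_inv, map_inv]
    exact mul_mem ((Subgroup.mem_normalizer_iff.1 ht _).1 hv) (inv_mem hv)
  have c1 : π (u⁻¹ * (s * u * s⁻¹)) = 1 := by simp [htu]
  have c2 : π (u * v * u⁻¹ * v⁻¹) = 1 := by
    simp only [map_mul, map_inv]
    rw [h.comm_Q hu hv]
    group
  have hc : Commute u (s * v * s⁻¹ * v⁻¹) := by
    have e1 := (h.cen c1 (s * v * s⁻¹)).eq
    have e2 := (h.cen c2 s).eq
    have e3 := (h.cen c2 (s * v * s⁻¹ * v⁻¹)).eq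
    have e4 := (h.cen c2 v⁻¹).eq
    have e5 : u * (s * v * s⁻¹) * u⁻¹ = s * (u * v * u⁻¹ * v⁻¹) * s⁻¹ * (s * v * s⁻¹) := by
      calc u * (s * v * s⁻¹) * u⁻¹
          = u * ((s * v * s⁻¹) * (u⁻¹ * (s * u * s⁻¹))) * (s * u * s⁻¹)⁻¹ := by group
        _ = u * ((u⁻¹ * (s * u * s⁻¹)) * (s * v * s⁻¹)) * (s * u * s⁻¹)⁻¹ := by rw [e1]
        _ = _ := by group
    rw [← e2] at e5
    change u * _ = _ * u
    calc u * (s * v * s⁻¹ * v⁻¹) = (u * (s * v * s⁻¹) * u⁻¹) * (u * v⁻¹) := by group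
      _ = (u * v * u⁻¹ * v⁻¹) * (s * v * s⁻¹ * v⁻¹) * (v * u * v⁻¹) := by rw [e5]; group
      _ = (s * v * s⁻¹ * v⁻¹) * (u * v * u⁻¹ * v⁻¹) * (v * u * v⁻¹) := by rw [e3]
      _ = (s * v * s⁻¹ * v⁻¹) * (u * v * v⁻¹) := by group
      _ = _ := by group
  obtain ⟨e, he⟩ := h.lin hu hd hu1 hc
  have h1 : π s * π v * (π s)⁻¹ = π u ^ e * π v := by
    rw [← he]
    simp
  have h2 : π s * π u ^ e * (π s)⁻¹ = π u ^ e := by rw [← conj_pow, htu]
  have h3 : (π u ^ e) ^ 3 = 1 := h.cube_Q (pow_mem hu e)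
  generalize π u ^ e = d at h1 h2 h3
  generalize π s = t at h1 h2
  generalize π v = w at h1
  have h4 : t * w = d * w * t := by rw [← h1]; group
  have h5 : t * d = d * t := by
    conv_rhs => rw [← h2]
    group
  calc w * t ^ 3 = d ^ 3 * w * t ^ 3 := by rw [h3, one_mul]
    _ = d * (d * (d * w * t) * t) * t := by simp only [pow_succ, pow_zero, one_mul, mul_assoc]
    _ = d * ((d * t) * (w * t)) * t := by rw [← h4]; simp only [mul_assoc]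
    _ = d * (t * (d * w * t)) * t := by rw [← h5]; simp only [mul_assoc]
    _ = (d * t) * t * (w * t) := by rw [← h4]; simp only [mul_assoc]
    _ = t * (d * t) * (w * t) := by
      conv_lhs => rw [← h5]
      simp only [mul_assoc]
    _ = t * t * (d * w * t) := by rw [← h5]; simp only [mul_assoc]
    _ = t ^ 3 * w := by rw [← h4]; simp only [pow_succ, pow_zero, one_mul, mul_assoc]

section Cover

variable {G X : Type} [Group G] [Finite G] [Group X] {π : Γ →* X} {σ : G →* X} {M : Ideal AlgInt}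
  {bl : Set (IrrCharacter G)} {D : Subgroup G}

theorem inj_D (H : Hyp 3 M bl D σ) {u v : G} (hu : u ∈ D) (hv : v ∈ D) (h : σ u = σ v) : u = v :=
  haveI : Fact (Nat.Prime 3) := ⟨Nat.prime_three⟩
  congrArg Subtype.val (H.injD (a₁ := ⟨u, hu⟩) (a₂ := ⟨v, hv⟩) (Subtype.ext h))

theorem card_D (h : HP π a b z) (H : Hyp 3 M bl D σ) (hQ : D.map σ = Subgroup.closure {π a, π b}) :
    Nat.card D = 9 := by
  have : Fact (Nat.Prime 3) := ⟨Nat.prime_three⟩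
  rw [← h.card_Q, ← hQ]
  exact Nat.card_eq_of_bijective _ ⟨H.injD, σ.subgroupMap_surjective D⟩

theorem ab_D (h : HP π a b z) (H : Hyp 3 M bl D σ) (hQ : D.map σ = Subgroup.closure {π a, π b}) : D ≤ Ce D := by
  intro u hu
  refine Subgroup.mem_centralizer_iff.2 fun v hv => inj_D H (mul_mem hv hu) (mul_mem hu hv) ?_
  rw [map_mul, map_mul]
  exact h.comm_Q (hQ ▸ ⟨v, hv, rfl⟩) (hQ ▸ ⟨u, hu, rfl⟩)

theorem cube_D (h : HP π a b z) (H : Hyp 3 M bl D σ) (hQ : D.map σ = Subgroup.closure {π a, π b}) {t u : G}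
    (ht : t ∈ Subgroup.normalizer (D : Set G)) (hu : u ∈ D) (hu1 : u ≠ 1) (htu : t * u * t⁻¹ = u) :
    t ^ 3 ∈ Ce D := by
  have : Fact (Nat.Prime 3) := ⟨Nat.prime_three⟩
  refine H.cpp.mem_centralizer (isPGroup_defect H.hD) ?_
  rw [map_pow, hQ]
  refine h.cube (u := σ u) (hQ ▸ map_mem_normalizer ht) (hQ ▸ ⟨u, hu, rfl⟩)
    (fun h1 => hu1 (inj_D H hu (one_mem _) (h1.trans (map_one σ).symm))) ?_
  rw [← map_inv, ← map_mul, ← map_mul, htu]

theorem reg_D (h : HP π a b z) (H : Hyp 3 M bl D σ) (hQ : D.map σ = Subgroup.closure {π a, π b}) :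
    ∀ t ∈ Subgroup.normalizer (D : Set G), ¬ 3 ∣ orderOf t → ∀ u ∈ D, u ≠ 1 → t * u * t⁻¹ = u → t ∈ Ce D := by
  intro t ht h3 u hu hu1 htu
  have h1 := h.cube_D H hQ ht hu hu1 htu
  obtain ⟨k, hk⟩ := exists_pow_eq_self_of_coprime (x := t) (n := 3)
    ((Nat.Prime.coprime_iff_not_dvd Nat.prime_three).2 h3)
  rw [← hk]
  exact pow_mem h1 k

theorem trans_D (h : HP π a b z) (H : Hyp 3 M bl D σ) (hQ : D.map σ = Subgroup.closure {π a, π b})
    {T : Subgroup G} {t₁ t₂ : G} (h1 : t₁ ∈ T) (h2 : t₂ ∈ T)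
    (a1 : σ t₁ * π a * (σ t₁)⁻¹ = π b ^ 2) (b1 : σ t₁ * π b * (σ t₁)⁻¹ = π a)
    (a2 : σ t₂ * π a * (σ t₂)⁻¹ = π a ^ 2 * π b ^ 2) (b2 : σ t₂ * π b * (σ t₂)⁻¹ = π a ^ 2 * π b) :
    ∀ u ∈ D, ∀ v ∈ D, u ≠ 1 → v ≠ 1 → ∃ t ∈ T, t ∈ Subgroup.normalizer (D : Set G) ∧ t * u * t⁻¹ = v := by
  have : Fact (Nat.Prime 3) := ⟨Nat.prime_three⟩
  have : Finite X := Finite.of_surjective σ H.surj
  intro u hu v hv hu1 hv1
  obtain ⟨_, ⟨t, ht, rfl⟩, hn, he⟩ := trans_of h.cAB h.A3 h.B3 h.mem_Q (T := T.map σ) ⟨t₁, h1, rfl⟩ ⟨t₂, h2, rfl⟩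
    a1 b1 a2 b2 (σ u) (hQ ▸ ⟨u, hu, rfl⟩) (σ v) (hQ ▸ ⟨v, hv, rfl⟩)
    (fun h1 => hu1 (inj_D H hu (one_mem _) (h1.trans (map_one σ).symm)))
    (fun h1 => hv1 (inj_D H hv (one_mem _) (h1.trans (map_one σ).symm)))
  have hn' : t ∈ Subgroup.normalizer (D : Set G) := H.cpp.mem_normalizer (isPGroup_defect H.hD) (hQ ▸ hn)
  refine ⟨t, ht, hn', inj_D H ((Subgroup.mem_normalizer_iff.1 hn' u).1 hu) hv ?_⟩
  rw [map_mul, map_mul, map_inv, he]

end Cover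

end HP

end Cfsg.Agent.TO.L2
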