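import Cfsg.Agent.TO.L2.Alg
import Cfsg.Agent.TO.L2.Heis
import Cfsg.Agent.TO.Cl
import Cfsg.Agent.BHZ.Nil.LocBasic

/-!
# The common core of the boxes L2 and U2
-/

set_option autoImplicit false
set_option linter.unusedSectionVars false

namespace Cfsg.Agent.TO.L2

open Cfsg Cfsg.Agent.BHZ.Nil
open scoped commutatorElement

theorem hs_of_heis {n : ℕ} {F : Type} [Field F] {a b : Matrix (Fin n) (Fin n) F} {ω : F} (h : Heis3 a b ω) :
    Hs a b ω := ⟨h.prim, h.a3, h.b3, h.comm⟩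

/-- `Γ` is a group of units of an algebra whose centre consists of scalars, `π` is the quotient by the centre -/
structure MG (F : Type*) [Field F] {R : Type*} [Ring R] [Algebra F R] {Γ X : Type*} [Group Γ] [Group X]
    (j : Γ →* R) (π : Γ →* X) : Prop where
  inj : Function.Injective j
  surj : Function.Surjective π
  ker : ∀ g, π g = 1 ↔ g ∈ Subgroup.center Γ
  sc : ∀ g ∈ Subgroup.center Γ, ∃ s : F, j g = s • 1

variable {F : Type*} [Field F] {R : Type*} [Ring R] [Algebra F R] [Nontrivial R] {Γ : Type*} [Group Γ]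
  {j : Γ →* R} {a b : Γ} {ω : F}

/-- the elements which lie in the algebra spanned by the pair -/
def Alg [Finite Γ] (h : Hs (j a) (j b) ω) : Subgroup Γ where
  carrier := {g | ∃ y : Matrix (Fin 3) (Fin 3) F, j g = psi (j a) (j b) y}
  one_mem' := ⟨1, by rw [map_one, h.psi_one]⟩
  mul_mem' := by
    rintro g g' ⟨y, hy⟩ ⟨y', hy'⟩
    exact ⟨y * y', by rw [map_mul, hy, hy', h.psi_mul]⟩
  inv_mem' := by
    rintro g ⟨y, hy⟩
    refine ⟨y ^ (orderOf g - 1), ?_⟩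
    rw [← h.psiH_apply, map_pow, h.psiH_apply, ← hy, ← map_pow]
    congr 1
    rw [eq_comm, ← mul_eq_one_iff_eq_inv, ← pow_succ, Nat.sub_add_cancel (orderOf_pos g), pow_orderOf_eq_one]

theorem mem_Alg [Finite Γ] (h : Hs (j a) (j b) ω) {g : Γ} :
    g ∈ Alg h ↔ ∃ y : Matrix (Fin 3) (Fin 3) F, j g = psi (j a) (j b) y := Iff.rfl

theorem det_inv (h : Hs (j a) (j b) ω) {g : Γ} {y y' : Matrix (Fin 3) (Fin 3) F} (hy : j g = psi (j a) (j b) y)
    (hy' : j g⁻¹ = psi (j a) (j b) y') : y.det * y'.det = 1 := by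
  have h1 : y * y' = 1 := h.psi_inj (by rw [h.psi_mul, ← hy, ← hy', ← map_mul, mul_inv_cancel, map_one, h.psi_one])
  rw [← Matrix.det_mul, h1, Matrix.det_one]

/-- those with reduced norm one -/
def Alg1 [Finite Γ] (h : Hs (j a) (j b) ω) : Subgroup Γ where
  carrier := {g | ∃ y : Matrix (Fin 3) (Fin 3) F, j g = psi (j a) (j b) y ∧ y.det = 1}
  one_mem' := ⟨1, by rw [map_one, h.psi_one], Matrix.det_one⟩
  mul_mem' := by
    rintro g g' ⟨y, hy, hd⟩ ⟨y', hy', hd'⟩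
    exact ⟨y * y', by rw [map_mul, hy, hy', h.psi_mul], by rw [Matrix.det_mul, hd, hd', one_mul]⟩
  inv_mem' := by
    rintro g ⟨y, hy, hd⟩
    obtain ⟨y', hy'⟩ := (Alg h).inv_mem ⟨y, hy⟩
    exact ⟨y', hy', by rw [← det_inv h hy hy', hd, one_mul]⟩

theorem comm_le_Alg1 [Finite Γ] (h : Hs (j a) (j b) ω) : ⁅Alg h, Alg h⁆ ≤ Alg1 h := by
  refine Subgroup.commutator_le.2 ?_
  rintro g ⟨y, hy⟩ g' ⟨y', hy'⟩
  obtain ⟨x, hx⟩ := (Alg h).inv_mem ⟨y, hy⟩
  obtain ⟨x', hx'⟩ := (Alg h).inv_mem ⟨y', hy'⟩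
  refine ⟨y * y' * x * x', ?_, ?_⟩
  · rw [commutatorElement_def, map_mul, map_mul, map_mul, hy, hy', hx, hx', h.psi_mul, h.psi_mul, h.psi_mul]
  · rw [Matrix.det_mul, Matrix.det_mul, Matrix.det_mul]
    linear_combination y'.det * x'.det * det_inv h hy hx + det_inv h hy' hx'

namespace MG

section

variable {X : Type*} [Group X] {π : Γ →* X}

theorem one_of_scalar (m : MG F j π) {g : Γ} {s : F} (hg : j g = s • 1) : π g = 1 :=
  (m.ker g).2 (Subgroup.mem_center_iff.2 fun x => m.inj (by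
    rw [map_mul, map_mul, hg, mul_smul_comm, smul_mul_assoc, mul_one, one_mul]))

theorem eq_of_smul (m : MG F j π) {g g' : Γ} {s : F} (hg : j g = s • j g') : π g = π g' := by
  rw [← mul_inv_eq_one, ← map_inv, ← map_mul]
  exact m.one_of_scalar (s := s) (by rw [map_mul, hg, smul_mul_assoc, ← map_mul, mul_inv_cancel, map_one])

theorem j_z (h : Hs (j a) (j b) ω) : j ⁅a, b⁆ = ω • 1 := by
  have h1 : ⁅a, b⁆ = a * b * (b * a)⁻¹ := by rw [commutatorElement_def]; group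
  rw [h1, map_mul, map_mul, h.comm, smul_mul_assoc, ← map_mul, ← map_mul, mul_inv_cancel, map_one]

theorem hp (m : MG F j π) (h : Hs (j a) (j b) ω) : HP π a b ⁅a, b⁆ where
  surj := m.surj
  ker := fun g hg => (m.ker g).1 hg
  hz := m.one_of_scalar (j_z h)
  z1 := fun h1 => w1 h.prim (smul_left_injective F (one_ne_zero (α := R)) (by
    have := j_z h
    rw [h1, map_one] at this
    simpa using this.symm))
  a3 := m.inj (by rw [map_pow, h.a3, map_one])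
  b3 := m.inj (by rw [map_pow, h.b3, map_one])
  comm := by rw [commutatorElement_def]; group

theorem P1_a (m : MG F j π) (h : Hs (j a) (j b) ω) {g : Γ} {c : F} (hg : j g = psi (j a) (j b) (c • P1 ω)) :
    π g * π a * (π g)⁻¹ = π b ^ 2 := by
  rw [mul_inv_eq_iff_eq_mul, ← map_pow, ← map_mul, ← map_mul]
  refine m.eq_of_smul (s := 1) ?_
  have h1 := congrArg (psi (j a) (j b)) (P1_mA h.prim)
  simp only [h.psi_mul, h.psi_mA, h.psi_mB] at h1
  rw [one_smul, map_mul, map_mul, map_pow, hg, psi_smul, smul_mul_assoc, h1, mul_smul_comm, pow_two]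

theorem P1_b (m : MG F j π) (h : Hs (j a) (j b) ω) {g : Γ} {c : F} (hg : j g = psi (j a) (j b) (c • P1 ω)) :
    π g * π b * (π g)⁻¹ = π a := by
  rw [mul_inv_eq_iff_eq_mul, ← map_mul, ← map_mul]
  refine m.eq_of_smul (s := 1) ?_
  have h1 := congrArg (psi (j a) (j b)) (P1_mB h.prim)
  simp only [h.psi_mul, h.psi_mA, h.psi_mB] at h1
  rw [one_smul, map_mul, map_mul, hg, psi_smul, smul_mul_assoc, h1, mul_smul_comm]

theorem P2_a (m : MG F j π) (h : Hs (j a) (j b) ω) {g : Γ} {c : F} (hg : j g = psi (j a) (j b) (c • P2 ω)) :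
    π g * π a * (π g)⁻¹ = π a ^ 2 * π b ^ 2 := by
  rw [mul_inv_eq_iff_eq_mul, ← map_pow, ← map_pow, ← map_mul, ← map_mul, ← map_mul]
  refine m.eq_of_smul (s := 1) ?_
  have h1 := congrArg (psi (j a) (j b)) (P2_mA h.prim)
  simp only [h.psi_mul, h.psi_mA, h.psi_mB] at h1
  rw [one_smul, map_mul, map_mul, map_mul, map_pow, map_pow, hg, psi_smul, smul_mul_assoc, h1, mul_smul_comm, pow_two,
    pow_two]

theorem P2_b (m : MG F j π) (h : Hs (j a) (j b) ω) {g : Γ} {c : F} (hg : j g = psi (j a) (j b) (c • P2 ω)) :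
    π g * π b * (π g)⁻¹ = π a ^ 2 * π b := by
  rw [mul_inv_eq_iff_eq_mul, ← map_pow, ← map_mul, ← map_mul, ← map_mul]
  refine m.eq_of_smul (s := ω ^ 2) ?_
  have h1 := congrArg (psi (j a) (j b)) (P2_mB h.prim)
  simp only [h.psi_mul, h.psi_mA, h.psi_mB, psi_smul] at h1
  rw [map_mul, map_mul, map_mul, map_pow, hg, psi_smul, smul_mul_assoc, h1, mul_smul_comm, pow_two (j a), smul_comm]

/-- commutation modulo the centre with an element of order `3` -/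
theorem twist (m : MG F j π) (h : Hs (j a) (j b) ω) {g x : Γ} (hx : x ^ 3 = 1) (hg : π g * π x = π x * π g) :
    ∃ e : ℕ, g * x = ⁅a, b⁆ ^ e * (x * g) := by
  have hk : π.ker ≤ Subgroup.center Γ := (m.hp h).ker
  have h1 : ⁅x, g⁆ ^ 3 = 1 := cent_comm_pow hk hg.symm hx
  have h2 : ⁅g, x⁆ ^ 3 = 1 := by rw [← commutatorElement_inv, inv_pow, h1, inv_one]
  obtain ⟨s, hs⟩ := m.sc _ (hk (CentPP.comm_ker hg))
  have h3 : s ^ 3 = 1 := smul_left_injective F (one_ne_zero (α := R)) (by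
    have := congrArg j h2
    rw [map_pow, hs, smul_pow, one_pow, map_one] at this
    simpa using this)
  obtain ⟨e, he⟩ : ∃ e : ℕ, s = ω ^ e := by
    rcases cube_root h.prim h3 with h4 | h4 | h4
    exacts [⟨0, by simpa using h4⟩, ⟨1, by simpa using h4⟩, ⟨2, h4⟩]
  have h4 : ⁅g, x⁆ = ⁅a, b⁆ ^ e := m.inj (by rw [map_pow, j_z h, hs, smul_pow, one_pow, he])
  exact ⟨e, by rw [← h4, commutatorElement_def]; group⟩

/-- an element which centralizes the pair modulo the centre -/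
theorem untwist (m : MG F j π) (h : Hs (j a) (j b) ω) {g : Γ} (ha : π g * π a = π a * π g)
    (hb : π g * π b = π b * π g) :
    ∃ i k : ℕ, a ^ i * b ^ k * g * a = a * (a ^ i * b ^ k * g) ∧ a ^ i * b ^ k * g * b = b * (a ^ i * b ^ k * g) := by
  have H := m.hp h
  obtain ⟨e, he⟩ := m.twist h H.a3 ha
  obtain ⟨f, hf⟩ := m.twist h H.b3 hb
  have hz := H.cen H.hz
  have h1 := H.pow_comm 1 e
  have h2 := H.pow_comm (2 * f) 1
  have h3 : ⁅a, b⁆ ^ f * ⁅a, b⁆ ^ (2 * f) = 1 := by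
    rw [← pow_add, show f + 2 * f = 3 * f by ring, pow_mul, H.z3, one_pow]
  rw [pow_one, one_mul] at h1
  rw [pow_one, mul_one] at h2
  generalize ⁅a, b⁆ = z at *
  refine ⟨2 * f, e, ?_, ?_⟩
  · calc a ^ (2 * f) * b ^ e * g * a = a ^ (2 * f) * (b ^ e * z ^ e) * a * g := by
          rw [mul_assoc _ g, he]; simp only [mul_assoc]
      _ = a ^ (2 * f) * (z ^ e * (b ^ e * a)) * g := by
          rw [← ((hz (b ^ e)).pow_left e).eq]; simp only [mul_assoc]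
      _ = _ := by rw [← h1, ← mul_assoc, ← pow_succ, pow_succ']; simp only [mul_assoc]
  · calc a ^ (2 * f) * b ^ e * g * b = (a ^ (2 * f) * b ^ e * z ^ f) * b * g := by
          rw [mul_assoc _ g, hf]; simp only [mul_assoc]
      _ = z ^ f * (a ^ (2 * f) * b) * b ^ e * g := by
          rw [← ((hz (a ^ (2 * f) * b ^ e)).pow_left f).eq]
          simp only [mul_assoc]
          rw [← mul_assoc (b ^ e), ← pow_succ, ← mul_assoc b, ← pow_succ']
      _ = _ := by rw [h2, ← mul_assoc (z ^ f), h3, one_mul]; simp only [mul_assoc]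

/-- the centralizer of the pair in the algebra, modulo the centre -/
theorem inner (m : MG F j π) (h : Hs (j a) (j b) ω) {g : Γ} {y : Matrix (Fin 3) (Fin 3) F}
    (hy : j g = psi (j a) (j b) y) (ha : π g * π a = π a * π g) (hb : π g * π b = π b * π g) :
    ∃ (i k : ℕ) (s : F), j (a ^ i * b ^ k * g) = s • 1 ∧ y.det = s ^ 3 := by
  obtain ⟨i, k, h1, h2⟩ := m.untwist h ha hb
  have h3 : j (a ^ i * b ^ k * g) = psi (j a) (j b) (mA ω ^ i * mB F ^ k * y) := by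
    rw [← h.psiH_apply, map_mul h.psiH, map_mul h.psiH, map_pow h.psiH, map_pow h.psiH]
    simp only [map_mul, map_pow, h.psiH_apply, h.psi_mA, h.psi_mB, hy]
  obtain ⟨s, hs⟩ := h.scalar_of_comm (y := mA ω ^ i * mB F ^ k * y) (by rw [← h3, ← map_mul, h1, map_mul])
    (by rw [← h3, ← map_mul, h2, map_mul])
  refine ⟨i, k, s, by rw [h3, hs, h.psi_scalar], ?_⟩
  have h4 := congrArg Matrix.det hs
  simpa [Matrix.det_mul, Matrix.det_pow, det_mA h.prim, det_mB] using h4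

end

section Core

variable {G X : Type} [Group G] [Finite G] [Group X] {π : Γ →* X} {σ : G →* X} {M : Ideal AlgInt}
  {bl : Set (IrrCharacter G)} {D : Subgroup G}

theorem mem_D (H : Hyp 3 M bl D σ) {ρ : Γ →* G} (hρπ : ∀ g, σ (ρ g) = π g) {x : Γ} (hx : x ^ 3 = 1)
    (hm : π x ∈ D.map σ) : ρ x ∈ D :=
  haveI : Fact (Nat.Prime 3) := ⟨Nat.prime_three⟩
  H.cpp.mem_of_pelt (isPGroup_defect H.hD) (n := 1) (by rw [pow_one, ← map_pow, hx, map_one]) (hρπ x ▸ hm)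

/-- **The core**: a canonical subgroup inside the image of the elements of reduced norm one. -/
theorem core (B : Blk) (H : Hyp 3 M bl D σ) (m : MG F j π) (h : Hs (j a) (j b) ω)
    (hQ : D.map σ = Subgroup.closure {π a, π b}) (ρ : Γ →* G) (hρπ : ∀ g, σ (ρ g) = π g) (K : Subgroup G)
    (hinv : ∀ α : MulAut G, (∀ x, α x ∈ D ↔ x ∈ D) → ∀ x ∈ K, α x ∈ K)
    (hK : ∀ x ∈ K, ∃ (g : Γ) (y : Matrix (Fin 3) (Fin 3) F) (k : ℕ), ρ g = x ∧ j g = psi (j a) (j b) y ∧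
      y.det ^ 3 ^ k = 1)
    {g₁ g₂ : Γ} {c₁ c₂ : F} (h1 : j g₁ = psi (j a) (j b) (c₁ • P1 ω)) (h2 : j g₂ = psi (j a) (j b) (c₂ • P2 ω))
    (k1 : ρ g₁ ∈ K) (k2 : ρ g₂ ∈ K) : False := by
  have : Fact (Nat.Prime 3) := ⟨Nat.prime_three⟩
  have P := m.hp h
  obtain ⟨θ, hθ⟩ := B.can0 G 3 M bl D H.hM H.hb H.hD (P.ab_D H hQ)
  have ha : π a ∈ D.map σ := hQ ▸ Subgroup.subset_closure (by simp)
  have hb : π b ∈ D.map σ := hQ ▸ Subgroup.subset_closure (by simp)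
  refine B.q8b G M bl D θ H.toTwo hθ (P.card_D H hQ) (P.reg_D H hQ) K ⟨fun α hα => hinv α hα.1, ?_⟩
    (P.trans_D H hQ k1 k2 (hρπ g₁ ▸ m.P1_a h h1) (hρπ g₁ ▸ m.P1_b h h1) (hρπ g₂ ▸ m.P2_a h h2)
      (hρπ g₂ ▸ m.P2_b h h2))
  intro x hx hc
  obtain ⟨g, y, k, rfl, hy, hd⟩ := hK x hx
  have hc' := Subgroup.mem_centralizer_iff.1 (map_mem_centralizer (π := σ) hc)
  rw [hρπ] at hc'
  obtain ⟨i, l, s, hs, hds⟩ := m.inner h hy (hc' _ ha).symm (hc' _ hb).symm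
  have h3 : (a ^ i * b ^ l * g) ^ 3 ^ (k + 1) = 1 := m.inj (by
    rw [map_pow, hs, smul_pow, one_pow, pow_succ', pow_mul, ← hds, hd, one_smul, map_one])
  have h4 : ρ (a ^ i * b ^ l * g) = 1 :=
    H.cpp.eq_one (n := k + 1) (by rw [hρπ, m.one_of_scalar hs]) (by rw [← map_pow, h3, map_one])
  refine hθ.triv _ ?_
  rw [map_mul, mul_eq_one_iff_inv_eq, map_mul, map_pow, map_pow] at h4
  rw [← h4]
  exact inv_mem (mul_mem (pow_mem (mem_D H hρπ P.a3 ha) i) (pow_mem (mem_D H hρπ P.b3 hb) l))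

theorem KK_inv {p : ℕ} [Fact p.Prime] (α : MulAut G) (hα : ∀ x, α x ∈ D ↔ x ∈ D) : ∀ x ∈ KK p D, α x ∈ KK p D := by
  intro x hx
  refine mem_KK_iff.2 fun y hy hr => ?_
  have h1 := mem_KK_iff.1 hx (α.symm y) (Subgroup.mem_centralizer_iff.2 fun d hd => α.injective (by
    rw [map_mul, map_mul, MulEquiv.apply_symm_apply]
    exact Subgroup.mem_centralizer_iff.1 hy _ ((hα d).2 hd))) (by rwa [MulEquiv.orderOf_eq])
  simpa using congrArg α h1

variable [Finite Γ]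

theorem alg_le_KK (m : MG F j π) (h : Hs (j a) (j b) ω)
    (hQ : D.map σ = Subgroup.closure {π a, π b}) {ρ : Γ →* G} (hρ : Function.Surjective ρ)
    (hρπ : ∀ g, σ (ρ g) = π g) : (Alg h).map ρ ≤ KK 3 D := by
  have : Fact (Nat.Prime 3) := ⟨Nat.prime_three⟩
  have P := m.hp h
  rintro _ ⟨g, ⟨y, hy⟩, rfl⟩
  refine mem_KK_iff.2 fun x hx hr => ?_
  obtain ⟨c, rfl⟩ := hρ x
  obtain ⟨n, hn, hcn⟩ := exists_reg_lift c hr
  rw [← hcn] at hx ⊢
  have hc' := Subgroup.mem_centralizer_iff.1 (map_mem_centralizer (π := σ) hx)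
  rw [hρπ, hQ] at hc'
  have ha := comm_of_coprime P.ker (n := 1) (by rw [pow_one, P.a3]) hn (hc' _ (Subgroup.subset_closure (by simp)))
  have hb := comm_of_coprime P.ker (n := 1) (by rw [pow_one, P.b3]) hn (hc' _ (Subgroup.subset_closure (by simp)))
  rw [← map_mul, ← map_mul]
  congr 1
  apply m.inj
  rw [map_mul, map_mul, hy]
  exact Hs.comm_psi (by rw [← map_mul, ← ha, map_mul]) (by rw [← map_mul, ← hb, map_mul]) y

theorem KK_le_alg (r : ℕ) [Fact r.Prime] [CharP F r] (m : MG F j π) (h : Hs (j a) (j b) ω)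
    (hQ : D.map σ = Subgroup.closure {π a, π b}) (H : Hyp 3 M bl D σ) {ρ : Γ →* G} (hρ : Function.Surjective ρ)
    (hρπ : ∀ g, σ (ρ g) = π g)
    (hT : ∀ k : Γ, (∀ c : Γ, c ^ r = 1 → c * a = a * c → c * b = b * c → k * c = c * k) →
      ∃ y : Matrix (Fin 3) (Fin 3) F, j k = psi (j a) (j b) y) : KK 3 D ≤ (Alg h).map ρ := by
  have : Fact (Nat.Prime 3) := ⟨Nat.prime_three⟩
  have P := m.hp h
  intro x hx
  obtain ⟨k, rfl⟩ := hρ x
  refine ⟨k, hT k fun c hc ha hb => ?_, rfl⟩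
  have h1 : ρ c ∈ Ce D := by
    refine H.cpp.mem_centralizer (isPGroup_defect H.hD) ?_
    rw [hρπ, hQ, Subgroup.centralizer_closure]
    refine Subgroup.mem_centralizer_iff.2 ?_
    rintro _ (rfl | rfl)
    · rw [← map_mul, ← ha, map_mul]
    · rw [← map_mul, ← hb, map_mul]
  have h2 : ¬ 3 ∣ orderOf (ρ c) := by
    intro h3
    have h4 : 3 ∣ r := h3.trans (orderOf_dvd_of_pow_eq_one (by rw [← map_pow, hc, map_one]))
    have h5 : 3 = r := (Nat.prime_dvd_prime_iff_eq Nat.prime_three Fact.out).1 h4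
    subst h5
    exact three_ne h.prim (by exact_mod_cast CharP.cast_eq_zero F 3)
  have h3 : π c * π k = π k * π c := by
    rw [← hρπ, ← hρπ, ← map_mul, mem_KK_iff.1 hx _ h1 h2, map_mul]
  have h4 : ⁅c, k⁆ ^ r = 1 := cent_comm_pow P.ker h3 hc
  obtain ⟨s, hs⟩ := m.sc _ (P.ker (CentPP.comm_ker h3))
  have h5 : s ^ r = 1 := smul_left_injective F (one_ne_zero (α := R)) (by
    have := congrArg j h4
    rw [map_pow, hs, smul_pow, one_pow, map_one] at this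
    simpa using this)
  have h6 : s = 1 := frobenius_inj F r (by rw [frobenius_def, h5, map_one])
  exact (commutatorElement_eq_one_iff_mul_comm.1 (m.inj (by rw [hs, h6, one_smul, map_one]))).symm

/-- **The core, generic case.** -/
theorem core_comm (B : Blk) (r : ℕ) [Fact r.Prime] [CharP F r] (H : Hyp 3 M bl D σ) (m : MG F j π)
    (h : Hs (j a) (j b) ω) (hQ : D.map σ = Subgroup.closure {π a, π b}) (ρ : Γ →* G) (hρ : Function.Surjective ρ)
    (hρπ : ∀ g, σ (ρ g) = π g)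
    (hT : ∀ k : Γ, (∀ c : Γ, c ^ r = 1 → c * a = a * c → c * b = b * c → k * c = c * k) →
      ∃ y : Matrix (Fin 3) (Fin 3) F, j k = psi (j a) (j b) y)
    {g₁ g₂ : Γ} {c₁ c₂ : F} (h1 : j g₁ = psi (j a) (j b) (c₁ • P1 ω)) (h2 : j g₂ = psi (j a) (j b) (c₂ • P2 ω))
    (k1 : g₁ ∈ ⁅Alg h, Alg h⁆) (k2 : g₂ ∈ ⁅Alg h, Alg h⁆) : False := by
  have : Fact (Nat.Prime 3) := ⟨Nat.prime_three⟩
  have e : KK 3 D = (Alg h).map ρ := le_antisymm (KK_le_alg r m h hQ H hρ hρπ hT) (alg_le_KK m h hQ hρ hρπ)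
  have e' : ⁅KK 3 D, KK 3 D⁆ = ⁅Alg h, Alg h⁆.map ρ := by rw [e, Subgroup.map_commutator]
  refine core B H m h hQ ρ hρπ ⁅KK 3 D, KK 3 D⁆ (fun α hα x hx => ?_) (fun x hx => ?_) h1 h2
    (e' ▸ ⟨g₁, k1, rfl⟩) (e' ▸ ⟨g₂, k2, rfl⟩)
  · have h3 : (KK 3 D).map α.toMonoidHom ≤ KK 3 D := by
      rintro _ ⟨x, hx, rfl⟩
      exact KK_inv α hα x hx
    have h4 := Subgroup.commutator_mono h3 h3
    rw [← Subgroup.map_commutator] at h4
    exact h4 ⟨x, hx, rfl⟩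
  · rw [e'] at hx
    obtain ⟨g, hg, rfl⟩ := hx
    obtain ⟨y, hy, hd⟩ := comm_le_Alg1 h hg
    exact ⟨g, y, 0, rfl, hy, by rw [hd, one_pow]⟩

/-- **The core over the field with four elements.** -/
theorem core_KK (B : Blk) (r : ℕ) [Fact r.Prime] [CharP F r] (hF : ∀ s : F, s ≠ 0 → s ^ 3 = 1)
    (H : Hyp 3 M bl D σ) (m : MG F j π)
    (h : Hs (j a) (j b) ω) (hQ : D.map σ = Subgroup.closure {π a, π b}) (ρ : Γ →* G) (hρ : Function.Surjective ρ)
    (hρπ : ∀ g, σ (ρ g) = π g)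
    (hT : ∀ k : Γ, (∀ c : Γ, c ^ r = 1 → c * a = a * c → c * b = b * c → k * c = c * k) →
      ∃ y : Matrix (Fin 3) (Fin 3) F, j k = psi (j a) (j b) y)
    {g₁ g₂ : Γ} {c₁ c₂ : F} (h1 : j g₁ = psi (j a) (j b) (c₁ • P1 ω)) (h2 : j g₂ = psi (j a) (j b) (c₂ • P2 ω)) :
    False := by
  have : Fact (Nat.Prime 3) := ⟨Nat.prime_three⟩
  refine core B H m h hQ ρ hρπ (KK 3 D) KK_inv (fun x hx => ?_) h1 h2
    (alg_le_KK m h hQ hρ hρπ ⟨g₁, ⟨_, h1⟩, rfl⟩) (alg_le_KK m h hQ hρ hρπ ⟨g₂, ⟨_, h2⟩, rfl⟩)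
  obtain ⟨g, ⟨y, hy⟩, rfl⟩ := KK_le_alg r m h hQ H hρ hρπ hT hx
  obtain ⟨y', hy'⟩ := (Alg h).inv_mem ⟨y, hy⟩
  exact ⟨g, y, 1, rfl, hy, hF _ (left_ne_zero_of_mul_eq_one (det_inv h hy hy'))⟩

end Core

end MG

end Cfsg.Agent.TO.L2
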