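import Mathlib.RingTheory.RootsOfUnity.PrimitiveRoots
import Mathlib.LinearAlgebra.Matrix.Determinant.Basic
import Mathlib.LinearAlgebra.Matrix.Notation
import Mathlib.Tactic.NoncommRing
import Mathlib.Tactic.LinearCombination
import Mathlib.Tactic.FinCases
import Mathlib.Tactic.Module

/-!
# The algebra spanned by a Heisenberg pair is `M₃(F)`
-/

set_option autoImplicit false

namespace Cfsg.Agent.TO.L2

open Matrix

variable {F : Type*} [Field F] {R : Type*} [Ring R] [Algebra F R]

/-- a Heisenberg pair in an algebra -/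
structure Hs (a b : R) (ω : F) : Prop where
  prim : IsPrimitiveRoot ω 3
  a3 : a ^ 3 = 1
  b3 : b ^ 3 = 1
  comm : a * b = ω • (b * a)

variable (F) in
/-- the projection onto the fixed space of `a` -/
def e (a : R) : R := (3 : F)⁻¹ • (1 + a + a * a)

variable (F) in
/-- `b ^ i e` -/
def V (a b : R) : Fin 3 → R := ![e F a, b * e F a, b * b * e F a]

variable (F) in
/-- `e b ^ (-i)` -/
def U (a b : R) : Fin 3 → R := ![e F a, e F a * (b * b), e F a * b]

/-- the embedding of `M₃(F)` -/
def psi (a b : R) (y : Matrix (Fin 3) (Fin 3) F) : R := ∑ i, ∑ j, y i j • (V F a b i * U F a b j)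

variable (F) in
/-- the diagonal extension of an endomorphism of the fixed space -/
def hat (a b : R) (N : R) : R := ∑ i, V F a b i * N * U F a b i

variable (F) in
/-- the blocks -/
def blk (a b : R) (k : R) (i j : Fin 3) : R := U F a b i * k * V F a b j

/-- the matrix of `a` -/
def mA (ω : F) : Matrix (Fin 3) (Fin 3) F := !![1, 0, 0; 0, ω, 0; 0, 0, ω ^ 2]

variable (F) in
/-- the matrix of `b` -/
def mB : Matrix (Fin 3) (Fin 3) F := !![0, 0, 1; 1, 0, 0; 0, 1, 0]

/-- the Fourier matrix -/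
def P1 (ω : F) : Matrix (Fin 3) (Fin 3) F := !![1, 1, 1; 1, ω, ω ^ 2; 1, ω ^ 2, ω]

/-- its conjugate by `diag(1, 1, ω)` -/
def P2 (ω : F) : Matrix (Fin 3) (Fin 3) F := !![1, 1, ω ^ 2; 1, ω, ω; ω, 1, ω]

section Root

variable {ω : F}

theorem w3 (h : IsPrimitiveRoot ω 3) : ω ^ 3 = 1 := h.pow_eq_one

theorem w1 (h : IsPrimitiveRoot ω 3) : ω ≠ 1 := h.ne_one (by norm_num)

theorem wsum (h : IsPrimitiveRoot ω 3) : 1 + ω + ω ^ 2 = 0 := by
  have h1 : (ω - 1) * (1 + ω + ω ^ 2) = 0 := by linear_combination w3 h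
  exact (mul_eq_zero.1 h1).resolve_left (sub_ne_zero.2 (w1 h))

theorem three_ne (h : IsPrimitiveRoot ω 3) : (3 : F) ≠ 0 := by
  intro h3
  have h1 : (ω - 1) ^ 2 = 0 := by linear_combination wsum h - ω * h3
  exact w1 h (sub_eq_zero.1 (pow_eq_zero_iff (by norm_num) |>.1 h1))

theorem w0 (h : IsPrimitiveRoot ω 3) : ω ≠ 0 := h.ne_zero (by norm_num)

theorem wsub (h : IsPrimitiveRoot ω 3) : ω - ω ^ 2 ≠ 0 := by
  intro h0
  apply three_ne h
  linear_combination (-(ω - ω ^ 2)) * h0 + (ω - 2) * w3 h + wsum h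

theorem cube_root (h : IsPrimitiveRoot ω 3) {s : F} (hs : s ^ 3 = 1) : s = 1 ∨ s = ω ∨ s = ω ^ 2 := by
  have h1 : (s - 1) * ((s - ω) * (s - ω ^ 2)) = 0 := by
    linear_combination hs + (s - 1) * w3 h - (s - 1) * s * wsum h
  rcases mul_eq_zero.1 h1 with h2 | h2
  · exact Or.inl (sub_eq_zero.1 h2)
  · rcases mul_eq_zero.1 h2 with h3 | h3
    · exact Or.inr (Or.inl (sub_eq_zero.1 h3))
    · exact Or.inr (Or.inr (sub_eq_zero.1 h3))

theorem det_mA (h : IsPrimitiveRoot ω 3) : (mA ω).det = 1 := by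
  rw [mA, det_fin_three]
  simp
  linear_combination w3 h

theorem det_mB : (mB F).det = 1 := by
  rw [mB, det_fin_three]
  simp

theorem det_P1 (h : IsPrimitiveRoot ω 3) : ((ω - ω ^ 2)⁻¹ • P1 ω).det = 1 := by
  have h1 : (P1 ω).det = (ω - ω ^ 2) ^ 3 := by
    rw [P1, det_fin_three]
    simp
    linear_combination (ω ^ 3 - 3 * ω ^ 2 + 2 * ω) * w3 h
  rw [det_smul, h1, Fintype.card_fin, ← mul_pow, inv_mul_cancel₀ (wsub h), one_pow]

theorem det_P2 (h : IsPrimitiveRoot ω 3) : ((ω - ω ^ 2)⁻¹ • P2 ω).det = 1 := by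
  have h1 : (P2 ω).det = (ω - ω ^ 2) ^ 3 := by
    rw [P2, det_fin_three]
    simp
    linear_combination (ω ^ 3 - 3 * ω ^ 2 + 2 * ω) * w3 h
  rw [det_smul, h1, Fintype.card_fin, ← mul_pow, inv_mul_cancel₀ (wsub h), one_pow]

theorem P1_mA (h : IsPrimitiveRoot ω 3) : P1 ω * mA ω = mB F * mB F * P1 ω := by
  ext i j
  fin_cases i <;> fin_cases j <;> simp [P1, mA, mB, Matrix.mul_apply, Fin.sum_univ_three]
  all_goals first | ring1 | linear_combination w3 h | linear_combination ω * w3 h

theorem P1_mB (h : IsPrimitiveRoot ω 3) : P1 ω * mB F = mA ω * P1 ω := by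
  ext i j
  fin_cases i <;> fin_cases j <;> simp [P1, mA, mB, Matrix.mul_apply, Fin.sum_univ_three]
  all_goals first | ring1 | linear_combination -w3 h | linear_combination -ω * w3 h

theorem P2_mA (h : IsPrimitiveRoot ω 3) : P2 ω * mA ω = mA ω * mA ω * (mB F * mB F) * P2 ω := by
  ext i j
  fin_cases i <;> fin_cases j <;> simp [P2, mA, mB, Matrix.mul_apply, Fin.sum_univ_three]
  all_goals first
    | ring1
    | linear_combination -w3 h
    | linear_combination -ω * w3 h
    | linear_combination ω * w3 h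
    | linear_combination w3 h
    | linear_combination -ω ^ 2 * w3 h
    | (left; linear_combination -ω * w3 h)

theorem P2_mB (h : IsPrimitiveRoot ω 3) : P2 ω * mB F = ω ^ 2 • (mA ω * mA ω * mB F * P2 ω) := by
  ext i j
  fin_cases i <;> fin_cases j <;> simp [P2, mA, mB, Matrix.mul_apply, Fin.sum_univ_three]
  all_goals first
    | ring1
    | linear_combination -w3 h
    | linear_combination -ω * w3 h
    | linear_combination -ω ^ 2 * w3 h
    | linear_combination -(ω ^ 3 + 1) * w3 h
    | linear_combination -ω * (ω ^ 3 + 1) * w3 h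

end Root

namespace Hs

variable {a b : R} {ω : F}

theorem aaa (h : Hs a b ω) : a * a * a = 1 := by rw [← h.a3, pow_succ, pow_two]

theorem bbb (h : Hs a b ω) : b * b * b = 1 := by rw [← h.b3, pow_succ, pow_two]

theorem a_e (h : Hs a b ω) : a * e F a = e F a := by
  rw [e, mul_smul_comm, mul_add, mul_add, ← mul_assoc, h.aaa, mul_one]
  congr 1
  abel

theorem e_a (h : Hs a b ω) : e F a * a = e F a := by
  rw [e, smul_mul_assoc, add_mul, add_mul, h.aaa, one_mul]
  congr 1
  abel

/-- the projection on an eigenvector of left multiplication -/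
theorem e_mul (x : R) (s : F) (hx : a * x = s • x) : e F a * x = ((3 : F)⁻¹ * (1 + s + s ^ 2)) • x := by
  rw [e, smul_mul_assoc, add_mul, add_mul, mul_assoc, hx, mul_smul_comm, hx, one_mul, mul_smul, smul_smul]
  congr 1
  module

theorem e_fix (h : Hs a b ω) {x : R} (hx : a * x = x) : e F a * x = x := by
  rw [e_mul x (1 : F) (by rw [hx, one_smul])]
  have : (3 : F)⁻¹ * (1 + 1 + 1 ^ 2) = 1 := by
    have := three_ne h.prim
    field_simp
    norm_num
  rw [this, one_smul]

theorem e_e (h : Hs a b ω) : e F a * e F a = e F a := h.e_fix h.a_e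

theorem a_V (h : Hs a b ω) (i : Fin 3) : a * V F a b i = ω ^ (i : ℕ) • V F a b i := by
  have h1 : a * (b * e F a) = ω • (b * e F a) := by
    rw [← mul_assoc, h.comm, smul_mul_assoc, mul_assoc, h.a_e]
  fin_cases i
  · simp [V, h.a_e]
  · simp [V, h1]
  · simp only [V, mul_assoc]
    change a * (b * (b * e F a)) = ω ^ 2 • (b * (b * e F a))
    rw [← mul_assoc, h.comm, smul_mul_assoc, mul_assoc, h1, mul_smul_comm, smul_smul, pow_two]

theorem ebe (h : Hs a b ω) : e F a * (b * e F a) = 0 := by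
  have h1 := e_mul _ _ (h.a_V 1)
  have h2 : 1 + ω ^ ((1 : Fin 3) : ℕ) + (ω ^ ((1 : Fin 3) : ℕ)) ^ 2 = 0 := by simpa using wsum h.prim
  rw [h2, mul_zero, zero_smul] at h1
  exact h1

theorem ebbe (h : Hs a b ω) : e F a * (b * (b * e F a)) = 0 := by
  have h1 := e_mul _ _ (h.a_V 2)
  have h2 : 1 + ω ^ ((2 : Fin 3) : ℕ) + (ω ^ ((2 : Fin 3) : ℕ)) ^ 2 = 0 := by
    change 1 + ω ^ 2 + (ω ^ 2) ^ 2 = 0
    linear_combination wsum h.prim + ω * w3 h.prim
  rw [h2, mul_zero, zero_smul] at h1
  rw [← mul_assoc b]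
  exact h1

theorem bbb' (h : Hs a b ω) (x : R) : b * (b * (b * x)) = x := by
  rw [← mul_assoc, ← mul_assoc, h.bbb, one_mul]

theorem U_V (h : Hs a b ω) (i j : Fin 3) : U F a b i * V F a b j = if i = j then e F a else 0 := by
  fin_cases i <;> fin_cases j <;> simp [U, V, mul_assoc, h.bbb', h.e_e, h.ebe, h.ebbe]

theorem sum_VU (h : Hs a b ω) : ∑ i, V F a b i * U F a b i = 1 := by
  have hba : b * a = ω ^ 2 • (a * b) := by
    rw [h.comm, smul_smul, ← pow_succ, w3 h.prim, one_smul]
  have hba' : ∀ x, b * (a * x) = ω ^ 2 • (a * (b * x)) := fun x => by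
    rw [← mul_assoc, hba, smul_mul_assoc, mul_assoc]
  have hb : b * (b * b) = 1 := by rw [← mul_assoc, h.bbb]
  have h1 : ∑ i, V F a b i * U F a b i = e F a + b * (e F a * (b * b)) + b * (b * (e F a * b)) := by
    have he : ∀ x, e F a * (e F a * x) = e F a * x := fun x => by rw [← mul_assoc, h.e_e]
    simp [Fin.sum_univ_three, U, V, mul_assoc, he, h.e_e]
  rw [h1, e]
  simp only [smul_mul_assoc, mul_smul_comm, add_mul, mul_add, one_mul, mul_assoc, hba', hb, mul_one, smul_add,
    smul_smul]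
  have h3 := three_ne h.prim
  have hw := w3 h.prim
  have hs := wsum h.prim
  match_scalars
  · field_simp
    norm_num
  · linear_combination (3 : F)⁻¹ * hs + (3 : F)⁻¹ * ω * hw
  · linear_combination (3 : F)⁻¹ * hs + (3 : F)⁻¹ * (ω + ω ^ 2 * (ω ^ 3 + 1)) * hw

theorem V_e (h : Hs a b ω) (i : Fin 3) : V F a b i * e F a = V F a b i := by
  fin_cases i <;> simp [V, mul_assoc, h.e_e]

theorem e_U (h : Hs a b ω) (i : Fin 3) : e F a * U F a b i = U F a b i := by
  fin_cases i <;> simp [U, ← mul_assoc, h.e_e]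

theorem b_V (h : Hs a b ω) (i : Fin 3) : b * V F a b i = V F a b (i + 1) := by
  fin_cases i <;> simp [V, mul_assoc, h.bbb']

theorem U_b (h : Hs a b ω) (i : Fin 3) : U F a b (i + 1) * b = U F a b i := by
  have hb : b * (b * b) = 1 := by rw [← mul_assoc, h.bbb]
  fin_cases i <;> simp [U, mul_assoc, hb]

theorem ext_V (h : Hs a b ω) {x y : R} (hxy : ∀ j, x * V F a b j = y * V F a b j) : x = y := by
  rw [← mul_one x, ← mul_one y, ← h.sum_VU, Finset.mul_sum, Finset.mul_sum]
  exact Finset.sum_congr rfl fun j _ => by rw [← mul_assoc, hxy, mul_assoc]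

theorem psi_V (h : Hs a b ω) (y : Matrix (Fin 3) (Fin 3) F) (j : Fin 3) :
    psi a b y * V F a b j = ∑ i, y i j • V F a b i := by
  rw [psi, Finset.sum_mul]
  refine Finset.sum_congr rfl fun i _ => ?_
  rw [Finset.sum_mul]
  simp only [smul_mul_assoc, mul_assoc, h.U_V, mul_ite, mul_zero, smul_ite, smul_zero, Finset.sum_ite_eq',
    Finset.mem_univ, if_true, h.V_e]

theorem psi_one (h : Hs a b ω) : psi a b (1 : Matrix (Fin 3) (Fin 3) F) = 1 :=
  h.ext_V fun j => by simp [h.psi_V, Matrix.one_apply]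

theorem psi_mul (h : Hs a b ω) (y y' : Matrix (Fin 3) (Fin 3) F) : psi a b (y * y') = psi a b y * psi a b y' :=
  h.ext_V fun j => by
    simp only [mul_assoc, h.psi_V, Finset.mul_sum, mul_smul_comm, Matrix.mul_apply, Finset.sum_smul, Finset.smul_sum,
      smul_smul]
    rw [Finset.sum_comm]
    exact Finset.sum_congr rfl fun i _ => Finset.sum_congr rfl fun k _ => by rw [mul_comm]

omit a b ω in
theorem _root_.Cfsg.Agent.TO.L2.psi_smul (a b : R) (s : F) (y : Matrix (Fin 3) (Fin 3) F) :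
    psi a b (s • y) = s • psi a b y := by
  simp only [psi, Finset.smul_sum, Matrix.smul_apply, smul_eq_mul, mul_smul]

omit a b ω in
theorem _root_.Cfsg.Agent.TO.L2.psi_add (a b : R) (y y' : Matrix (Fin 3) (Fin 3) F) :
    psi a b (y + y') = psi a b y + psi a b y' := by
  simp only [psi, Matrix.add_apply, add_smul, Finset.sum_add_distrib]

/-- the embedding as an algebra homomorphism -/
def psiH (h : Hs a b ω) : Matrix (Fin 3) (Fin 3) F →ₐ[F] R :=
  AlgHom.ofLinearMap { toFun := psi a b, map_add' := psi_add a b, map_smul' := psi_smul a b } h.psi_one h.psi_mul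

theorem psiH_apply (h : Hs a b ω) (y : Matrix (Fin 3) (Fin 3) F) : h.psiH y = psi a b y := rfl

theorem blk_psi (h : Hs a b ω) (y : Matrix (Fin 3) (Fin 3) F) (i j : Fin 3) :
    blk F a b (psi a b y) i j = y i j • e F a := by
  simp [blk, mul_assoc, h.psi_V, Finset.mul_sum, h.U_V]

theorem e_ne [Nontrivial R] (h : Hs a b ω) : e F a ≠ 0 := by
  intro h0
  have h1 := h.sum_VU
  simp [V, h0, Fin.sum_univ_three] at h1

theorem psi_inj [Nontrivial R] (h : Hs a b ω) : Function.Injective (psi a b : Matrix (Fin 3) (Fin 3) F → R) := by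
  intro y y' hy
  ext i j
  have h1 := h.blk_psi y i j
  rw [hy, h.blk_psi] at h1
  exact (smul_left_injective F h.e_ne h1).symm

theorem psi_mA (h : Hs a b ω) : psi a b (mA ω) = a :=
  h.ext_V fun j => by
    rw [h.psi_V, h.a_V]
    fin_cases j <;> simp [mA, Fin.sum_univ_three]

theorem psi_mB (h : Hs a b ω) : psi a b (mB F) = b :=
  h.ext_V fun j => by
    rw [h.psi_V, h.b_V]
    fin_cases j <;> simp [mB, Fin.sum_univ_three]

theorem psi_scalar (h : Hs a b ω) (s : F) : psi a b (s • (1 : Matrix (Fin 3) (Fin 3) F)) = s • (1 : R) := by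
  rw [psi_smul, h.psi_one]

/-- the centralizer of the pair centralizes the algebra -/
theorem comm_psi {c : R} (ha : c * a = a * c) (hb : c * b = b * c) (y : Matrix (Fin 3) (Fin 3) F) :
    c * psi a b y = psi a b y * c := by
  have ha' : Commute c a := ha
  have hb' : Commute c b := hb
  have he : Commute c (e F a) :=
    (((Commute.one_right c).add_right ha').add_right (ha'.mul_right ha')).smul_right _
  have hV : ∀ i, Commute c (V F a b i) := fun i => by
    fin_cases i
    exacts [he, hb'.mul_right he, (hb'.mul_right hb').mul_right he]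
  have hU : ∀ i, Commute c (U F a b i) := fun i => by
    fin_cases i
    exacts [he, he.mul_right (hb'.mul_right hb'), he.mul_right hb']
  exact Commute.sum_right _ _ _ fun i _ => Commute.sum_right _ _ _ fun j _ => ((hV i).mul_right (hU j)).smul_right _

/-- an element of the algebra which commutes with the pair is a scalar -/
theorem scalar_of_comm [Nontrivial R] (h : Hs a b ω) {y : Matrix (Fin 3) (Fin 3) F}
    (ha : psi a b y * a = a * psi a b y) (hb : psi a b y * b = b * psi a b y) : ∃ s : F, y = s • 1 := by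
  have h1 : ∀ y', y * y' = y' * y := fun y' => h.psi_inj (by rw [h.psi_mul, h.psi_mul, comm_psi ha hb])
  obtain ⟨s, hs⟩ := Matrix.mem_range_scalar_of_commute_single (M := y) fun i j _ => (h1 _).symm
  exact ⟨s, by rw [← hs, Matrix.scalar_apply, Matrix.smul_one_eq_diagonal]⟩

theorem mem_of_blocks (h : Hs a b ω) {k : R} (hk : ∀ i j, ∃ s : F, blk F a b k i j = s • e F a) :
    ∃ y : Matrix (Fin 3) (Fin 3) F, k = psi a b y := by
  choose y hy using hk
  refine ⟨Matrix.of y, h.ext_V fun j => ?_⟩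
  rw [h.psi_V, ← one_mul (k * _), ← h.sum_VU, Finset.sum_mul]
  refine Finset.sum_congr rfl fun i _ => ?_
  have h1 := hy i j
  rw [blk, mul_assoc] at h1
  rw [mul_assoc, h1, mul_smul_comm, h.V_e, Matrix.of_apply]

theorem e_blk (h : Hs a b ω) (k : R) (i j : Fin 3) : e F a * blk F a b k i j = blk F a b k i j := by
  rw [blk, ← mul_assoc, ← mul_assoc, h.e_U]

theorem blk_e (h : Hs a b ω) (k : R) (i j : Fin 3) : blk F a b k i j * e F a = blk F a b k i j := by
  rw [blk, mul_assoc, h.V_e]

theorem hat_V (h : Hs a b ω) (N : R) (j : Fin 3) : hat F a b N * V F a b j = V F a b j * (N * e F a) := by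
  simp [hat, Finset.sum_mul, mul_assoc, h.U_V]

theorem U_hat (h : Hs a b ω) (N : R) (i : Fin 3) : U F a b i * hat F a b N = e F a * N * U F a b i := by
  simp [hat, Finset.mul_sum, ← mul_assoc, h.U_V]

theorem hat_a (h : Hs a b ω) (N : R) : hat F a b N * a = a * hat F a b N :=
  h.ext_V fun j => by
    rw [mul_assoc, mul_assoc, h.a_V, mul_smul_comm, h.hat_V, ← mul_assoc a, h.a_V, smul_mul_assoc]

theorem hat_b (h : Hs a b ω) (N : R) : hat F a b N * b = b * hat F a b N :=
  h.ext_V fun j => by rw [mul_assoc, mul_assoc, h.b_V, h.hat_V, h.hat_V, ← mul_assoc b, h.b_V]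

theorem hat_mul (h : Hs a b ω) (N N' : R) : hat F a b N * hat F a b N' = hat F a b (N * e F a * N') :=
  h.ext_V fun j => by
    rw [mul_assoc, h.hat_V, ← mul_assoc, h.hat_V, h.hat_V]
    simp only [mul_assoc]

theorem hat_zero : hat F a b 0 = 0 := by simp [hat]

theorem hat_e (h : Hs a b ω) : hat F a b (e F a) = 1 :=
  h.ext_V fun j => by rw [h.hat_V, h.e_e, h.V_e, one_mul]

theorem hat_add (N N' : R) : hat F a b (N + N') = hat F a b N + hat F a b N' := by
  simp [hat, mul_add, add_mul, Finset.sum_add_distrib]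

theorem hat_smul (s : F) (N : R) : hat F a b (s • N) = s • hat F a b N := by
  simp [hat, Finset.smul_sum]

/-- the blocks of an element which commutes with `hat N` commute with `N` -/
theorem blk_comm (h : Hs a b ω) {k N : R} (h1 : e F a * N = N) (h2 : N * e F a = N)
    (hk : k * hat F a b N = hat F a b N * k) (i j : Fin 3) : blk F a b k i j * N = N * blk F a b k i j := by
  have h3 : U F a b i * (k * hat F a b N) * V F a b j = U F a b i * (hat F a b N * k) * V F a b j := by rw [hk]
  rw [mul_assoc, mul_assoc, h.hat_V, h2, ← mul_assoc (U F a b i) (hat F a b N), h.U_hat, h1] at h3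
  simp only [blk, mul_assoc] at h3 ⊢
  exact h3

end Hs

end Cfsg.Agent.TO.L2
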