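import Cfsg.Agent.TO.L2.Core
import Cfsg.Agent.S0248

/-!
# L2: the special linear group
-/

set_option autoImplicit false
set_option linter.unusedSectionVars false

namespace Cfsg.Agent.TO.L2

open Cfsg Matrix
open scoped commutatorElement

variable {F : Type} [Field F] {n : ℕ}

theorem scalar_of_eig {E h : Matrix (Fin n) (Fin n) F} (hE : h * E = h)
    (hv : ∀ w, ∃ s : F, h *ᵥ w = s • (E *ᵥ w)) : ∃ s : F, h = s • E := by
  by_cases h0 : ∀ w, E *ᵥ w = 0
  · refine ⟨0, ext_of_mulVec_single fun i => ?_⟩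
    obtain ⟨s, hs⟩ := hv (Pi.single i 1)
    rw [hs, h0, zero_smul, smul_zero, zero_mulVec]
  push Not at h0
  obtain ⟨w0, h0⟩ := h0
  obtain ⟨s, hs⟩ := hv w0
  refine ⟨s, ext_of_mulVec_single fun i => ?_⟩
  rw [smul_mulVec]
  generalize (Pi.single i 1 : Fin n → F) = w
  obtain ⟨t, ht⟩ := hv w
  obtain ⟨u, hu⟩ := hv (w + w0)
  rw [mulVec_add, mulVec_add, ht, hs] at hu
  have h1 : (t - u) • (E *ᵥ w) = (u - s) • (E *ᵥ w0) := by
    rw [sub_smul, sub_smul, sub_eq_sub_iff_add_eq_add, hu, smul_add, add_comm]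
  by_cases htu : t = u
  · rw [htu, sub_self, zero_smul, eq_comm, smul_eq_zero, sub_eq_zero] at h1
    rw [ht, htu, h1.resolve_right h0]
  · have h2 : E *ᵥ w = ((t - u)⁻¹ * (u - s)) • (E *ᵥ w0) := by
      rw [mul_smul, ← h1, inv_smul_smul₀ (sub_ne_zero.2 htu)]
    rw [← hE, ← mulVec_mulVec, h2, mulVec_smul, mulVec_mulVec, hE, hs, smul_comm]

theorem eig_of_comm {E h : Matrix (Fin n) (Fin n) F} (hEE : E * E = E) (hE : E * h = h)
    (hc : ∀ v f : Fin n → F, E *ᵥ v = v → f ᵥ* E = f → f ⬝ᵥ v = 0 → h * vecMulVec v f = vecMulVec v f * h)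
    {v : Fin n → F} (hv : E *ᵥ v = v) : ∃ s : F, h *ᵥ v = s • v := by
  by_contra hn
  have h1 : h *ᵥ v ∉ Submodule.span F {v} := fun hm => by
    obtain ⟨s, hs⟩ := Submodule.mem_span_singleton.1 hm
    exact hn ⟨s, hs.symm⟩
  obtain ⟨φ, h2, h3⟩ := Submodule.exists_dual_map_eq_bot_of_notMem h1 inferInstance
  have h4 : φ v = 0 := by
    have : φ v ∈ (Submodule.span F {v}).map φ := ⟨v, Submodule.mem_span_singleton_self v, rfl⟩
    rwa [h3] at this
  have h5 : ∀ x, (fun i => φ (Pi.single i 1)) ⬝ᵥ x = φ x := fun x => by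
    rw [LinearMap.pi_apply_eq_sum_univ φ x, dotProduct]
    refine Finset.sum_congr rfl fun i _ => ?_
    rw [smul_eq_mul, mul_comm]
    congr 2
    ext j
    simp [Pi.single_apply, eq_comm]
  have h6 : ∀ x, ((fun i => φ (Pi.single i 1)) ᵥ* E) ⬝ᵥ x = φ (E *ᵥ x) := fun x => by
    rw [← dotProduct_mulVec, h5]
  have h7 := congrArg (· *ᵥ v) (hc v ((fun i => φ (Pi.single i 1)) ᵥ* E) hv (by rw [vecMul_vecMul, hEE])
    (by rw [h6, hv, h4]))
  simp only [← mulVec_mulVec, vecMulVec_mulVec, h6, hv, h4] at h7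
  rw [mulVec_mulVec, hE] at h7
  simp only [MulOpposite.op_zero, zero_smul, mulVec_zero, op_smul_eq_smul] at h7
  have h8 : v = 0 := (smul_eq_zero.1 h7.symm).resolve_left h2
  exact hn ⟨0, by rw [h8, mulVec_zero, smul_zero]⟩

theorem one_add_pow_sq_zero {R : Type*} [Ring R] {x : R} (hx : x * x = 0) (k : ℕ) : (1 + x) ^ k = 1 + k • x := by
  induction k with
  | zero => simp
  | succ k ih => rw [pow_succ, ih, add_mul, one_mul, mul_add, mul_one, smul_mul_assoc, hx, smul_zero, add_zero,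
      succ_nsmul, add_assoc, add_comm x]

theorem unip_pow (r : ℕ) [CharP F r] {x : Matrix (Fin n) (Fin n) F} (hx : x * x = 0) : (1 + x) ^ r = 1 := by
  rw [one_add_pow_sq_zero hx, ← Nat.cast_smul_eq_nsmul F, CharP.cast_eq_zero, zero_smul, add_zero]

theorem unip_det (r : ℕ) [Fact r.Prime] [CharP F r] {x : Matrix (Fin n) (Fin n) F} (hx : x * x = 0) :
    (1 + x).det = 1 :=
  frobenius_inj F r (by rw [frobenius_def, ← det_pow, unip_pow r hx, det_one, map_one])

/-- the inclusion -/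
abbrev jL (n : ℕ) (F : Type) [Field F] : SpecialLinearGroup (Fin n) F →* Matrix (Fin n) (Fin n) F :=
  SpecialLinearGroup.coeMonoidHom

/-- the projection -/
abbrev pL (n : ℕ) (F : Type) [Field F] : SpecialLinearGroup (Fin n) F →* ProjectiveSpecialLinearGroup (Fin n) F :=
  QuotientGroup.mk' (Subgroup.center _)

theorem mgL : MG F (jL n F) (pL n F) where
  inj := SpecialLinearGroup.coeMonoidHom_injective
  surj := QuotientGroup.mk'_surjective _
  ker := fun g => QuotientGroup.eq_one_iff g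
  sc := fun g hg => by
    obtain ⟨r, -, hr⟩ := Matrix.SpecialLinearGroup.mem_center_iff.1 hg
    exact ⟨r, by rw [smul_one_eq_diagonal, ← scalar_apply, hr]; rfl⟩

variable {a b : SpecialLinearGroup (Fin n) F} {ω : F}

/-- the double centralizer -/
theorem hTL (r : ℕ) [Fact r.Prime] [CharP F r] (h : Hs (jL n F a) (jL n F b) ω) (k : SpecialLinearGroup (Fin n) F)
    (hk : ∀ c : SpecialLinearGroup (Fin n) F, c ^ r = 1 → c * a = a * c → c * b = b * c → k * c = c * k) :
    ∃ y : Matrix (Fin 3) (Fin 3) F, jL n F k = psi (jL n F a) (jL n F b) y := by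
  refine h.mem_of_blocks fun i j => scalar_of_eig (h.blk_e _ i j) fun w => ?_
  rw [← h.blk_e, ← mulVec_mulVec]
  refine eig_of_comm h.e_e (h.e_blk _ i j) (fun v f hv hf hfv => ?_) (by rw [mulVec_mulVec, h.e_e])
  have h1 : e F (jL n F a) * vecMulVec v f = vecMulVec v f := by rw [mul_vecMulVec, hv]
  have h2 : vecMulVec v f * e F (jL n F a) = vecMulVec v f := by rw [vecMulVec_mul, hf]
  have h3 : hat F (jL n F a) (jL n F b) (vecMulVec v f) * hat F (jL n F a) (jL n F b) (vecMulVec v f) = 0 := by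
    rw [h.hat_mul, h2, vecMulVec_mul_vecMulVec, hfv, zero_smul, vecMulVec_zero, Hs.hat_zero]
  have h4 := congrArg Subtype.val (hk ⟨_, unip_det r h3⟩ (Subtype.ext (unip_pow r h3))
    (Subtype.ext (by
      change (1 + _) * jL n F a = jL n F a * (1 + _)
      rw [add_mul, mul_add, h.hat_a, one_mul, mul_one]))
    (Subtype.ext (by
      change (1 + _) * jL n F b = jL n F b * (1 + _)
      rw [add_mul, mul_add, h.hat_b, one_mul, mul_one])))
  change jL n F k * (1 + _) = (1 + _) * jL n F k at h4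
  rw [add_mul, mul_add, one_mul, mul_one, add_right_inj] at h4
  exact h.blk_comm h1 h2 h4 i j

theorem det_psi (h : Hs (jL n F a) (jL n F b) ω) (s : SpecialLinearGroup (Fin 3) F) :
    (psi (jL n F a) (jL n F b) s.1).det = 1 := by
  let f : SpecialLinearGroup (Fin 3) F →* Fˣ :=
    ((detMonoidHom.comp (h.psiH : Matrix (Fin 3) (Fin 3) F →* Matrix (Fin n) (Fin n) F)).comp (jL 3 F)).toHomUnits
  have h1 : commutator (SpecialLinearGroup (Fin 3) F) ≤ f.ker := Abelianization.commutator_subset_ker f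
  rw [S0248.result 3 le_rfl] at h1
  exact congrArg Units.val (h1 (Subgroup.mem_top s))

/-- the embedding of `SL₃` -/
def iota (h : Hs (jL n F a) (jL n F b) ω) : SpecialLinearGroup (Fin 3) F →* SpecialLinearGroup (Fin n) F where
  toFun s := ⟨psi (jL n F a) (jL n F b) s.1, det_psi h s⟩
  map_one' := Subtype.ext h.psi_one
  map_mul' s t := Subtype.ext (h.psi_mul s.1 t.1)

theorem iota_mem [Finite F] (h : Hs (jL n F a) (jL n F b) ω) (s : SpecialLinearGroup (Fin 3) F) :
    iota h s ∈ ⁅Alg h, Alg h⁆ := by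
  have h1 : (⊤ : Subgroup (SpecialLinearGroup (Fin 3) F)).map (iota h) ≤ Alg h := by
    rintro _ ⟨t, -, rfl⟩
    exact ⟨t.1, rfl⟩
  have h2 := Subgroup.commutator_mono h1 h1
  rw [← Subgroup.map_commutator, ← commutator_def, S0248.result 3 le_rfl] at h2
  exact h2 ⟨s, trivial, rfl⟩

theorem three_dvd (h : Hs (jL n F a) (jL n F b) ω) : 3 ∣ n := by
  have h1 := congrArg det h.comm
  rw [det_smul, ← map_mul, ← map_mul, Fintype.card_fin] at h1
  change (a * b).1.det = ω ^ n * (b * a).1.det at h1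
  rw [(a * b).2, (b * a).2, mul_one] at h1
  exact (h.prim.pow_eq_one_iff_dvd n).1 h1.symm

end Cfsg.Agent.TO.L2
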